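/-
Non-linear F-sets: `D` is the set of all generators of a normal set of subgroups of odd prime order `p` (the points), any two
of which generate a group `R⟨x⟩` with `R` an `r`-group.  `RR, EE, cjs, Fx, Blk, AB` are those of `PERM/FS`.
-/
import Cfsg.Agent.PERM.FS.Basic

set_option autoImplicit false

namespace CL.NF

open Subgroup CL.FS

variable {G : Type*} [Group G]

/-- F-set; the points are the subgroups `zpowers x`, `x ∈ D` -/
structure IsN (p r : ℕ) (D : Set G) : Prop where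
  pp : p.Prime
  p2 : p ≠ 2
  rp : r.Prime
  ne : r ≠ p
  ord : ∀ x ∈ D, orderOf x = p
  conj : ∀ x ∈ D, ∀ g : G, g * x * g⁻¹ ∈ D
  pw : ∀ x ∈ D, ∀ y ∈ zpowers x, y ≠ 1 → y ∈ D
  pg : ∀ x ∈ D, ∀ y ∈ D, IsPGroup r (RR {x, y})
  mem : ∀ x ∈ D, ∀ y ∈ D, ∃ y' ∈ zpowers y, y' ≠ 1 ∧ x⁻¹ * y' ∈ RR {x, y}

/-- all lines are non-abelian -/
def NA (D : Set G) : Prop := ∀ x ∈ D, ∀ y ∈ D, IsMulCommutative (RR {x, y}) → y ∈ zpowers x

/-- a good subspace -/
structure Sub (r : ℕ) (D Y : Set G) : Prop where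
  sub : Y ⊆ D
  pg : IsPGroup r (RR Y)
  cl : ∀ y ∈ D, y ∈ closure Y → y ∈ Y

/-- at least two points -/
def NT (Y : Set G) : Prop := ∃ x ∈ Y, ∃ y ∈ Y, y ∉ zpowers x

/-- linear: the normaliser of a point centralises it -/
def Lin (D : Set G) : Prop := ∀ x ∈ D, ∀ g : G, g * x * g⁻¹ ∈ zpowers x → g * x = x * g

/-- the non-linear minimal counterexample -/
structure St (p r : ℕ) (D : Set G) : Prop extends IsN p r D where
  na : NA D
  gen : closure D = ⊤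
  bad : ¬ IsPGroup r (commutator G)
  prop : ∀ Y : Set G, Y ⊆ D → closure Y ≠ ⊤ → IsPGroup r (RR Y)
  zr : IsPGroup r (center G)
  nrm : ∀ K : Subgroup G, K.Normal → K ≤ center G ∨ commutator G ≤ K
  top : commutator G = ⊤
  simple : IsSimpleGroup (commutator (G ⧸ center G))

theorem St.perf {p r : ℕ} {D : Set G} (h : St p r D) : ⁅commutator G, commutator G⁆ = commutator G := by
  rw [h.top]; exact h.top

theorem NT.nonempty {Y : Set G} (h : NT Y) : Y.Nonempty := let ⟨x, hx, _⟩ := h; ⟨x, hx⟩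

theorem NT.mono {Y Y' : Set G} (h : NT Y) (hs : Y ⊆ Y') : NT Y' :=
  let ⟨x, hx, y, hy, e⟩ := h; ⟨x, hs hx, y, hs hy, e⟩

theorem conj_mem_zpowers {g x y : G} : g * y * g⁻¹ ∈ zpowers (g * x * g⁻¹) ↔ y ∈ zpowers x := by
  refine ⟨fun ⟨i, hi⟩ => ⟨i, ?_⟩, fun ⟨i, hi⟩ => ⟨i, ?_⟩⟩
  · simpa using hi
  · simp [← hi]

theorem NT.cj {Y : Set G} (h : NT Y) (g : G) : NT (cjs g Y) :=
  let ⟨x, hx, y, hy, e⟩ := h
  ⟨_, conj_mem_cjs.2 hx, _, conj_mem_cjs.2 hy, fun e' => e (conj_mem_zpowers.1 e')⟩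

end CL.NF
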