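/-
Non-linear F-sets: good subspaces.  `R = RR Y` is special with centre `E = EE Y = C_R(x)` and is transitive on the points of `Y`.
-/
import Cfsg.Agent.PERM.NF.Defs

set_option autoImplicit false
set_option linter.unusedVariables false

namespace CL.NF

open Subgroup CL.MSS CL.FS
open scoped commutatorElement

variable {G : Type*} [Group G] {p r : ℕ} {D Y : Set G}

theorem IsN.cop (h : IsN p r D) : p.Coprime r := (Nat.coprime_primes h.pp h.rp).2 h.ne.symm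

theorem IsN.pow_eq (h : IsN p r D) {x : G} (hx : x ∈ D) : x ^ p = 1 := h.ord x hx ▸ pow_orderOf_eq_one x

theorem IsN.ne_one (h : IsN p r D) {x : G} (hx : x ∈ D) : x ≠ 1 := fun e =>
  h.pp.one_lt.ne' (by rw [← h.ord x hx, e, orderOf_one])

theorem IsN.eq_one (h : IsN p r D) {Q : Subgroup G} (hQ : IsPGroup r Q) {g : G} (hg : g ∈ Q) (hp : g ^ p = 1) : g = 1 := by
  obtain ⟨k, hk⟩ := isPGroup_iff_forall_mem.1 hQ g hg
  have := pow_gcd_eq_one.2 ⟨hp, hk⟩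
  rwa [(h.cop.pow_right k).gcd_eq_one, pow_one] at this

theorem IsN.pow_zp (h : IsN p r D) {x y : G} (hx : x ∈ D) (hy : y ∈ zpowers x) : y ^ p = 1 := by
  obtain ⟨i, rfl⟩ := hy
  rw [← zpow_natCast, ← zpow_mul, mul_comm, zpow_mul, zpow_natCast, h.pow_eq hx, one_zpow]

/-- a non-trivial element of a point generates it -/
theorem IsN.zp_symm (h : IsN p r D) {x y : G} (hx : x ∈ D) (hy : y ∈ zpowers x) (h1 : y ≠ 1) : x ∈ zpowers y := by
  haveI := Fact.mk h.pp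
  have hf : IsOfFinOrder x := orderOf_pos_iff.1 (h.ord x hx ▸ h.pp.pos)
  haveI : Finite (zpowers x) := finite_zpowers.2 hf
  have := eq_of_le_of_card_ge (zpowers_le.2 hy) (by rw [Nat.card_zpowers, Nat.card_zpowers, h.ord x hx, h.ord y (h.pw x hx y hy h1)])
  exact this.ge (mem_zpowers x)

theorem IsN.zp_eq (h : IsN p r D) {x y : G} (hx : x ∈ D) (hy : y ∈ D) (e : y ∈ zpowers x) : zpowers y = zpowers x :=
  le_antisymm (zpowers_le.2 e) (zpowers_le.2 (h.zp_symm hx e (h.ne_one hy)))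

theorem IsN.RR_pair_eq (h : IsN p r D) {x y y' : G} (hy : y ∈ D) (e : y' ∈ zpowers y) (h1 : y' ≠ 1) :
    RR {x, y'} = RR {x, y} := by
  have : closure {x, y'} = closure ({x, y} : Set G) := by
    rw [Set.insert_eq, Set.insert_eq x, Subgroup.closure_union, Subgroup.closure_union, ← zpowers_eq_closure y, ← zpowers_eq_closure y',
      h.zp_eq hy (h.pw y hy y' e h1) e]
  rw [RR, RR, this]

/-- distinct points do not commute -/
theorem IsN.eq_of_comm (h : IsN p r D) {x y : G} (hx : x ∈ D) (hy : y ∈ D) (hc : x * y = y * x) : y ∈ zpowers x := by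
  obtain ⟨y', h1, h2, h3⟩ := h.mem x hx y hy
  have hc' : Commute x⁻¹ y' := by
    obtain ⟨i, rfl⟩ := h1
    exact ((show Commute x y from hc).zpow_right i).inv_left
  have := h.eq_one (h.pg x hx y hy) h3 (by rw [hc'.mul_pow, inv_pow, h.pow_eq hx, h.pow_zp hy h1]; simp)
  rw [inv_mul_eq_one.1 this]
  exact h.zp_symm hy h1 h2

/-- an element of an `x`-invariant `r`-group that normalises the point centralises it -/
theorem IsN.comm_of_nrm (h : IsN p r D) {x k : G} (hx : x ∈ D) {Q : Subgroup G} (hQ : IsPGroup r Q)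
    (hxQ : x ∈ normalizer (Q : Set G)) (hk : k ∈ Q) (e : k * x * k⁻¹ ∈ zpowers x) : k * x = x * k := by
  have h1 : k * x * k⁻¹ * x⁻¹ ∈ Q := by
    simpa [mul_assoc] using mul_mem hk (conj_mem_of_nrm hxQ (inv_mem hk))
  have := h.eq_one hQ h1 (h.pow_zp hx (mul_mem e (inv_mem (mem_zpowers x))))
  rwa [mul_inv_eq_one, mul_inv_eq_iff_eq_mul] at this

/-- a subgroup normalised by `Y` such that all elements of `Y` lie in `K⟨x⟩` contains `RR Y` -/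
theorem RR_le_of_subset_sup {K : Subgroup G} {x : G} (hx : x ∈ normalizer (K : Set G)) (hm : Y ⊆ (K ⊔ zpowers x : Subgroup G)) :
    RR Y ≤ K := (RR_le_of_subset hm).trans (comm_sup_zpowers_le hx)

/-- a point centralises every abelian subgroup it normalises -/
theorem IsN.cen_of_ab (h : IsN p r D) (hn : NA D) {x : G} (hx : x ∈ D) {B : Subgroup G} (hB : IsMulCommutative B)
    (hxB : x ∈ normalizer (B : Set G)) : x ∈ centralizer (B : Set G) := by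
  refine mem_centralizer_iff.2 fun b hb => ?_
  have h1 := hn x hx _ (h.conj x hx b) (comm_of_le hB (RR_pair_le hxB hb))
  by_cases e : b * x * b⁻¹ * x⁻¹ = 1
  · rwa [mul_inv_eq_one, mul_inv_eq_iff_eq_mul] at e
  have h2 : b * x * b⁻¹ * x⁻¹ ∈ B := by simpa [mul_assoc] using mul_mem hb (conj_mem_of_nrm hxB (inv_mem hb))
  have h3 : x ∈ B := zpowers_le.2 h2 (h.zp_symm hx (mul_mem h1 (inv_mem (mem_zpowers x))) e)
  exact congrArg Subtype.val (hB.is_comm.comm (⟨b, hb⟩ : B) ⟨x, h3⟩)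

theorem IsN.cjs_eq (h : IsN p r D) (g : G) : cjs g D = D := by
  ext y
  rw [mem_cjs]
  exact ⟨fun hy => by simpa [mul_assoc] using h.conj _ hy g, fun hy => by simpa using h.conj _ hy g⁻¹⟩

theorem IsN.subset_sup (h : IsN p r D) (hY : Y ⊆ D) {x : G} (hx : x ∈ Y) : Y ⊆ (RR Y ⊔ zpowers x : Subgroup G) := fun y hy => by
  obtain ⟨y', h1, h2, h3⟩ := h.mem x (hY hx) y (hY hy)
  have : y' ∈ RR Y ⊔ zpowers x := by
    simpa using mul_mem (mem_sup_right (mem_zpowers x) : x ∈ RR Y ⊔ zpowers x)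
      (mem_sup_left (RR_mono (Set.pair_subset hx hy) h3))
  exact zpowers_le.2 this (h.zp_symm (hY hy) h1 h2)

/-- `x⁻¹ · k x k⁻¹ ∈ RR Y` for `k ∈ ⟨Y⟩` -/
theorem inv_mul_conj_mem {x k : G} (hx : x ∈ Y) (hk : k ∈ closure Y) : x⁻¹ * (k * x * k⁻¹) ∈ RR Y := by
  simpa [RR, commutatorElement_def, mul_assoc] using commutator_mem_commutator (inv_mem (subset_closure hx)) hk

theorem sub_inter {K : Subgroup G} (hK : IsPGroup r (RR (D ∩ K))) : Sub r D (D ∩ K) :=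
  ⟨Set.inter_subset_left, hK, fun _ hy hc => ⟨hy, (closure_le K).2 Set.inter_subset_right hc⟩⟩

theorem Sub.mem_of_zp (hY : Sub r D Y) {x y : G} (hx : x ∈ Y) (hy : y ∈ D) (e : y ∈ zpowers x) : y ∈ Y :=
  hY.cl y hy (zpowers_le.2 (subset_closure hx) e)

theorem Sub.inter {Y' : Set G} (hY : Sub r D Y) (hY' : Sub r D Y') : Sub r D (Y ∩ Y') :=
  ⟨Set.inter_subset_left.trans hY.sub, hY.pg.to_le (RR_mono Set.inter_subset_left), fun y hy hc =>
    ⟨hY.cl y hy (closure_mono Set.inter_subset_left hc), hY'.cl y hy (closure_mono Set.inter_subset_right hc)⟩⟩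

theorem Sub.cj (h : IsN p r D) (hY : Sub r D Y) (g : G) : Sub r D (cjs g Y) := by
  refine ⟨(cjs_mono g hY.sub).trans (h.cjs_eq g).subset, RR_cjs g Y ▸ hY.pg.map _, fun y hy hc => mem_cjs.2 ?_⟩
  rw [closure_cjs, mem_cj] at hc
  exact hY.cl _ (by simpa using h.conj y hy g⁻¹) hc

theorem Sub.closure_le_nrm (h : IsN p r D) (hY : Sub r D Y) : closure Y ≤ normalizer Y := by
  have key : ∀ g ∈ closure Y, ∀ y ∈ Y, g * y * g⁻¹ ∈ Y := fun g hg y hy =>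
    hY.cl _ (h.conj y (hY.sub hy) g) (mul_mem (mul_mem hg (subset_closure hy)) (inv_mem hg))
  exact fun g hg n => ⟨key g hg n, fun hn => by simpa [mul_assoc] using key _ (inv_mem hg) _ hn⟩

theorem Sub.RR_le_nrm (h : IsN p r D) (hY : Sub r D Y) : RR Y ≤ normalizer Y :=
  (RR_le_closure Y).trans (hY.closure_le_nrm h)

theorem Sub.mem_nrm (h : IsN p r D) (hY : Sub r D Y) {x : G} (hx : x ∈ Y) : x ∈ normalizer Y :=
  hY.closure_le_nrm h (subset_closure hx)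

theorem Sub.mem_nrm_RR (h : IsN p r D) (hY : Sub r D Y) {x : G} (hx : x ∈ Y) : x ∈ normalizer (RR Y : Set G) :=
  nrm_le_nrm_RR Y (hY.mem_nrm h hx)

theorem Sub.conj_mem (h : IsN p r D) (hY : Sub r D Y) {x ρ : G} (hx : x ∈ Y) (hρ : ρ ∈ RR Y) : ρ * x * ρ⁻¹ ∈ Y :=
  conj_mem_of_nrm (hY.RR_le_nrm h hρ) hx

/-- an `r`-group `Q` normalised by a point `x` gives the subspace `D ∩ Q⟨x⟩` -/
theorem IsN.sub_of_inv (h : IsN p r D) {x : G} (hx : x ∈ D) {Q : Subgroup G} (hQ : IsPGroup r Q)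
    (hxQ : x ∈ normalizer (Q : Set G)) :
    Sub r D (D ∩ (Q ⊔ zpowers x : Subgroup G)) ∧ RR (D ∩ (Q ⊔ zpowers x : Subgroup G)) ≤ Q := by
  have := RR_le_of_subset_sup hxQ (Set.inter_subset_right (s := D))
  exact ⟨sub_inter (hQ.to_le this), this⟩

theorem IsN.sub_line (h : IsN p r D) {x y : G} (hx : x ∈ D) (hy : y ∈ D) :
    Sub r D (D ∩ (closure {x, y} : Subgroup G)) ∧ RR (D ∩ (closure {x, y} : Subgroup G)) = RR {x, y} := by
  have : RR (D ∩ (closure {x, y} : Subgroup G)) = RR {x, y} := le_antisymm (RR_le_of_subset Set.inter_subset_right)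
    (RR_mono (Set.subset_inter (Set.pair_subset hx hy) subset_closure))
  exact ⟨sub_inter (this ▸ h.pg x hx y hy), this⟩

theorem Sub.closure_le (h : IsN p r D) (hY : Sub r D Y) {x : G} (hx : x ∈ Y) : closure Y ≤ RR Y ⊔ zpowers x :=
  (Subgroup.closure_le _).2 (h.subset_sup hY.sub hx)

theorem Sub.RR_le_nrm_EE (h : IsN p r D) (hY : Sub r D Y) : RR Y ≤ normalizer (EE Y : Set G) :=
  (hY.RR_le_nrm h).trans (nrm_le_nrm_EE Y)

variable [Finite G]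

theorem Sub.sylIn (h : IsN p r D) (hY : Sub r D Y) {z : G} (hz : z ∈ Y) : SylIn p (zpowers z) (closure Y) := by
  refine ⟨zpowers_le.2 (subset_closure hz), isPGroup_zpowers (k := 1) (by simpa using h.pow_eq (hY.sub hz)),
    fun Q hQ h1 h2 => le_antisymm (fun q hq => ?_) h1⟩
  obtain ⟨k, hk, i, rfl⟩ := exists_of_mem_sup_zpowers (hY.mem_nrm_RR h hz) (hY.closure_le h hz (h2 hq))
  have hkQ : k ∈ Q := by simpa using mul_mem hq (inv_mem (h1 (zpow_mem_zpowers z i)))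
  obtain ⟨a, ha⟩ := isPGroup_iff_forall_mem.1 hQ k hkQ
  obtain ⟨b, hb⟩ := isPGroup_iff_forall_mem.1 hY.pg k hk
  have := pow_gcd_eq_one.2 ⟨ha, hb⟩
  rw [(h.cop.pow a b).gcd_eq_one, pow_one] at this
  rw [this, one_mul]; exact zpow_mem_zpowers z i

/-- `RR Y` is transitive on the points of `Y` -/
theorem Sub.exists_conj (h : IsN p r D) (hY : Sub r D Y) {x y : G} (hx : x ∈ Y) (hy : y ∈ Y) :
    ∃ ρ ∈ RR Y, y ∈ zpowers (ρ * x * ρ⁻¹) := by
  haveI := Fact.mk h.pp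
  obtain ⟨g, hg, e⟩ := (hY.sylIn h hx).exists_conj (hY.sylIn h hy)
  obtain ⟨k, hk, i, rfl⟩ := exists_of_mem_sup_zpowers (hY.mem_nrm_RR h hx) (hY.closure_le h hx hg)
  refine ⟨k, hk, ?_⟩
  rw [cj_zpowers, show k * x ^ i * x * (k * x ^ i)⁻¹ = k * x * k⁻¹ by group] at e
  exact e.ge (mem_zpowers y)

/-- exact form: `y` is matched with `x` by an `x`-invariant `r`-group `Q ≥ RR Y` -/
theorem Sub.exists_conj_eq (h : IsN p r D) (hY : Sub r D Y) {x c : G} (hx : x ∈ Y) {Q : Subgroup G} (hQ : IsPGroup r Q)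
    (hxQ : x ∈ normalizer (Q : Set G)) (hR : RR Y ≤ Q) (hc : c ∈ Q) (hy : c * x * c⁻¹ ∈ Y) :
    ∃ ρ ∈ RR Y, ρ * x * ρ⁻¹ = c * x * c⁻¹ := by
  obtain ⟨ρ, hρ, e⟩ := hY.exists_conj h hx hy
  have := h.comm_of_nrm (hY.sub hx) hQ hxQ (mul_mem (inv_mem (hR hρ)) hc) (conj_mem_zpowers.1 (by
    rwa [show ρ * (ρ⁻¹ * c * x * (ρ⁻¹ * c)⁻¹) * ρ⁻¹ = c * x * c⁻¹ by group]))
  refine ⟨ρ, hρ, ?_⟩
  calc ρ * x * ρ⁻¹ = ρ * (x * (ρ⁻¹ * c)) * c⁻¹ := by group
    _ = _ := by rw [← this]; group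

/-- a subgroup containing all `ρ x ρ⁻¹` contains `Y` -/
theorem Sub.subset_of_conj (h : IsN p r D) (hY : Sub r D Y) {x : G} (hx : x ∈ Y) {K : Subgroup G}
    (hK : ∀ ρ ∈ RR Y, ρ * x * ρ⁻¹ ∈ K) : Y ⊆ K := fun y hy => by
  obtain ⟨ρ, hρ, e⟩ := hY.exists_conj h hx hy
  exact zpowers_le.2 (hK ρ hρ) e

/-- a subspace containing all `ρ x ρ⁻¹` contains `Y` -/
theorem Sub.subset_of_conj' (h : IsN p r D) (hY : Sub r D Y) {x : G} (hx : x ∈ Y) {I : Set G} (hI : Sub r D I)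
    (hK : ∀ ρ ∈ RR Y, ρ * x * ρ⁻¹ ∈ I) : Y ⊆ I := fun y hy =>
  hI.cl y (hY.sub hy) (hY.subset_of_conj h hx (fun ρ hρ => subset_closure (hK ρ hρ)) hy)

/-- two points are conjugate by an element of their line group -/
theorem IsN.exists_conj (h : IsN p r D) {x y : G} (hx : x ∈ D) (hy : y ∈ D) :
    ∃ ρ ∈ RR {x, y}, y ∈ zpowers (ρ * x * ρ⁻¹) := by
  obtain ⟨h1, h2⟩ := h.sub_line hx hy
  exact h2 ▸ h1.exists_conj h ⟨hx, subset_closure (by simp)⟩ ⟨hy, subset_closure (by simp)⟩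

theorem Sub.RR_eq (h : IsN p r D) (hY : Sub r D Y) {x : G} (hx : x ∈ Y) : ⁅RR Y, zpowers x⁆ = RR Y := by
  refine le_antisymm (commutator_le_left_of_normalizes (zpowers_le.2 (hY.mem_nrm_RR h hx)))
    (RR_le_of_subset_sup (normalizer_commutator_ge_right _ _ (mem_zpowers x)) (hY.subset_of_conj h hx fun ρ hρ => ?_))
  simpa [commutatorElement_def, mul_assoc] using mul_mem
    (mem_sup_left (commutator_mem_commutator hρ (mem_zpowers x)) : _ ∈ ⁅RR Y, zpowers x⁆ ⊔ zpowers x) (mem_sup_right (mem_zpowers x))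

theorem Sub.special (h : IsN p r D) (hn : NA D) (hY : Sub r D Y) {x : G} (hx : x ∈ Y) :
    (∀ e ∈ RR Y, e ^ r ∈ centralizer (RR Y : Set G)) ∧ ⁅RR Y, RR Y⁆ = RR Y ⊓ centralizer (RR Y : Set G) ∧
      ∀ e ∈ RR Y, e ∈ centralizer (RR Y : Set G) ↔ Commute x e := by
  haveI := Fact.mk h.rp
  exact CL.FpfT.special_of_abelian hY.pg (hY.mem_nrm_RR h hx) (h.ord x (hY.sub hx) ▸ h.cop) (hY.RR_eq h hx)
    fun B _ h1 h2 => h.cen_of_ab hn (hY.sub hx) h2 h1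

theorem Sub.mem_EE_iff (h : IsN p r D) (hn : NA D) (hY : Sub r D Y) {x ρ : G} (hx : x ∈ Y) (hρ : ρ ∈ RR Y) :
    ρ ∈ EE Y ↔ ρ * x = x * ρ := by
  refine ⟨fun he => (mem_centralizer_iff.1 he.2 x hx).symm, fun he => ⟨hρ, mem_centralizer_iff.2 fun y hy => ?_⟩⟩
  have h1 := ((hY.special h hn hx).2.2 ρ hρ).2 he.symm
  exact ((hY.special h hn hy).2.2 ρ hρ).1 h1

/-- an element of `RR Y` fixing a point lies in `EE Y` -/
theorem Sub.mem_EE_of_zp (h : IsN p r D) (hn : NA D) (hY : Sub r D Y) {x ρ : G} (hx : x ∈ Y) (hρ : ρ ∈ RR Y)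
    (e : ρ * x * ρ⁻¹ ∈ zpowers x) : ρ ∈ EE Y :=
  (hY.mem_EE_iff h hn hx hρ).2 (h.comm_of_nrm (hY.sub hx) hY.pg (hY.mem_nrm_RR h hx) hρ e)

theorem Sub.EE_eq (h : IsN p r D) (hn : NA D) (hY : Sub r D Y) : EE Y = RR Y ⊓ centralizer (RR Y : Set G) := by
  refine le_antisymm (fun e he => ⟨he.1, mem_centralizer_iff.2 fun ρ hρ => EE_comm he hρ⟩)
    fun e he => ⟨he.1, mem_centralizer_iff.2 fun y hy => ((hY.special h hn hy).2.2 e he.1).1 he.2⟩

theorem Sub.comm_RR (h : IsN p r D) (hn : NA D) (hY : Sub r D Y) : ⁅RR Y, RR Y⁆ = EE Y := by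
  rcases Y.eq_empty_or_nonempty with rfl | ⟨x, hx⟩
  · simp [EE, RR]
  rw [hY.EE_eq h hn, (hY.special h hn hx).2.1]

theorem Sub.comm_mem (h : IsN p r D) (hn : NA D) (hY : Sub r D Y) {ρ σ : G} (hρ : ρ ∈ RR Y) (hσ : σ ∈ RR Y) :
    ⁅ρ, σ⁆ ∈ EE Y := hY.comm_RR h hn ▸ commutator_mem_commutator hρ hσ

/-- an `s`-group, `s ≠ r`, normalising a non-empty subspace normalises a point -/
theorem Sub.fix0 (h : IsN p r D) (hY : Sub r D Y) (hne : Y.Nonempty) {s : ℕ} (hs : s.Prime) (hsr : s ≠ r)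
    {Q : Subgroup G} (hQ : IsPGroup s Q) (hQY : Q ≤ normalizer Y) : ∃ x ∈ Y, ∀ q ∈ Q, q * x * q⁻¹ ∈ zpowers x := by
  haveI := Fact.mk h.rp
  haveI := Fact.mk hs
  obtain ⟨x, hx⟩ := hne
  let act : ∀ {K : Subgroup G}, K ≤ normalizer Y → MulAction K (zpowers '' Y : Set (Subgroup G)) := fun {K} hK =>
    { smul := fun q A => ⟨(q : G) •ᶜ A.1, by
        obtain ⟨_, y, hy, rfl⟩ := A
        exact ⟨_, conj_mem_of_nrm (hK q.2) hy, (cj_zpowers _ _).symm⟩⟩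
      one_smul := fun A => Subtype.ext (cj_one _)
      mul_smul := fun a b A => Subtype.ext (cj_mul _ _ _) }
  have hc : ∃ n, Nat.card (zpowers '' Y : Set (Subgroup G)) = r ^ n := by
    letI := act (hY.RR_le_nrm h)
    obtain ⟨n, hn⟩ := hY.pg.card_orbit (⟨_, x, hx, rfl⟩ : (zpowers '' Y : Set (Subgroup G)))
    refine ⟨n, hn ▸ ?_⟩
    have : MulAction.orbit (RR Y) (⟨_, x, hx, rfl⟩ : (zpowers '' Y : Set (Subgroup G))) = Set.univ :=
      Set.eq_univ_of_forall (by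
        rintro ⟨_, y, hy, rfl⟩
        obtain ⟨ρ, hρ, e⟩ := hY.exists_conj h hx hy
        exact ⟨⟨ρ, hρ⟩, Subtype.ext ((cj_zpowers _ _).trans (h.zp_eq (h.conj x (hY.sub hx) ρ) (hY.sub hy) e).symm)⟩)
    rw [this, Nat.card_univ]
  obtain ⟨n, hn⟩ := hc
  letI := act hQY
  obtain ⟨⟨_, y, hy, rfl⟩, hf⟩ := hQ.nonempty_fixed_point_of_prime_not_dvd_card (zpowers '' Y : Set (Subgroup G)) (by
    rw [hn]; exact fun hd => hsr ((Nat.prime_dvd_prime_iff_eq hs h.rp).1 (hs.dvd_of_dvd_pow hd)))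
  refine ⟨y, hy, fun q hq => ?_⟩
  have : q •ᶜ zpowers y = zpowers y := congrArg Subtype.val (hf ⟨q, hq⟩)
  exact this.le (conj_mem_cj (mem_zpowers y))

theorem Sub.RR_not_le (h : IsN p r D) (hY : Sub r D Y) (hne : NT Y) : ¬ RR Y ≤ EE Y := fun hle => by
  obtain ⟨x, hx, y, hy, hxy⟩ := hne
  obtain ⟨ρ, hρ, e⟩ := hY.exists_conj h hx hy
  exact hxy (by simpa [show ρ * x * ρ⁻¹ = x by simpa using EE_mul_conj (ρ := 1) (hle hρ) hx] using e)

theorem IsN.exists_not_mem (h : IsN p r D) (hY : Y ⊆ D) (hne : NT Y) {x : G} (hx : x ∈ D) : ∃ y ∈ Y, y ∉ zpowers x := by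
  by_contra! hc
  obtain ⟨a, ha, b, hb, e⟩ := hne
  exact e ((h.zp_eq hx (hY ha) (hc a ha)).ge (hc b hb))

/-- a subgroup `C ≤ RR Y` normalised by `x ∈ Y` lies in `K · EE Y` as soon as `K` contains `x` and its `C`-conjugates -/
theorem Sub.le_sup (h : IsN p r D) (hn : NA D) (hY : Sub r D Y) {x : G} (hx : x ∈ Y) {C K : Subgroup G}
    (hC : C ≤ RR Y) (hxC : x ∈ normalizer (C : Set G)) (hK : ∀ c ∈ C, c * x * c⁻¹ ∈ K) :
    C ≤ (RR Y ⊓ K) ⊔ EE Y := by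
  obtain ⟨h1, h2⟩ := h.sub_of_inv (hY.sub hx) (hY.pg.to_le hC) hxC
  have hxJ : x ∈ D ∩ (C ⊔ zpowers x : Subgroup G) := ⟨hY.sub hx, mem_sup_right (mem_zpowers x)⟩
  have h3 : D ∩ (C ⊔ zpowers x : Subgroup G) ⊆ K := h1.subset_of_conj h hxJ fun ρ hρ => hK ρ (h2 hρ)
  intro c hc
  obtain ⟨ρ, hρ, e⟩ := h1.exists_conj_eq h hxJ (hY.pg.to_le hC) hxC h2 hc ⟨h.conj x (hY.sub hx) c,
    mul_mem (mul_mem (mem_sup_left hc) hxJ.2) (inv_mem (mem_sup_left hc))⟩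
  have h4 : ρ⁻¹ * c ∈ EE Y := (hY.mem_EE_iff h hn hx (mul_mem (inv_mem (hC (h2 hρ))) (hC hc))).2 (by
    calc ρ⁻¹ * c * x = ρ⁻¹ * (c * x * c⁻¹) * c := by group
      _ = _ := by rw [← e]; group)
  have h5 : ρ ∈ RR Y ⊓ K := ⟨hC (h2 hρ), (Subgroup.closure_le K).2 h3 (RR_le_closure _ hρ)⟩
  simpa using mul_mem (mem_sup_left h5) (mem_sup_right h4)

/-- if `RR Y ≤ (RR Y ⊓ K) EE Y` and `x ∈ K` then `Y ⊆ K` -/
theorem Sub.subset_of_le_sup (h : IsN p r D) (hY : Sub r D Y) {x : G} (hx : x ∈ Y) {K : Subgroup G} (hxK : x ∈ K)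
    (hle : RR Y ≤ (RR Y ⊓ K) ⊔ EE Y) : Y ⊆ K := hY.subset_of_conj h hx fun ρ hρ => by
  obtain ⟨a, ha, e, he, rfl⟩ := (mem_sup_of_normalizes_right (inf_le_left.trans (hY.RR_le_nrm_EE h))).1 (hle hρ)
  rw [EE_mul_conj he hx]
  exact mul_mem (mul_mem ha.2 hxK) (inv_mem ha.2)

/-- (GEN): a non-cyclic abelian `r'`-group `B` fixing `x ∈ Y`: the fixed points of the elements of `B#` generate `Y` -/
theorem Sub.gen (h : IsN p r D) (hn : NA D) (hY : Sub r D Y) {x : G} (hx : x ∈ Y) {B K : Subgroup G}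
    (hB : IsMulCommutative B) (hc : ¬ IsCyclic B) (hcop : (Nat.card B).Coprime r) (hBY : B ≤ normalizer Y)
    (hBx : B ≤ centralizer {x}) (hK : ∀ b ∈ B, b ≠ 1 → ∀ y ∈ Y, y * b = b * y → y ∈ K) : Y ⊆ K := by
  haveI := Fact.mk h.rp
  obtain ⟨n, hn'⟩ := IsPGroup.iff_card.1 hY.pg
  obtain ⟨b₀, hb₀, hb₁⟩ : ∃ b ∈ B, b ≠ 1 := by
    by_contra hh
    push Not at hh
    exact hc (by rw [(eq_bot_iff_forall B).2 hh]; infer_instance)
  have hxb : ∀ b ∈ B, x * b = b * x := fun b hb => (mem_centralizer_singleton_iff.1 (hBx hb)).symm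
  refine hY.subset_of_le_sup h hx (hK b₀ hb₀ hb₁ x hx (hxb b₀ hb₀)) ?_
  have := CL.coprime_iSup_centralizer_noncyclic B (RR Y) hc (hBY.trans (nrm_le_nrm_RR Y)) (hn' ▸ hcop.pow_right n)
  refine this.ge.trans (iSup₂_le fun b hb => hY.le_sup h hn hx inf_le_left ?_ fun c hc => ?_)
  · refine le_normalizer_inf (zpowers_le.2 (hY.mem_nrm_RR h hx)) (zpowers_le.2 (le_normalizer ?_)) (mem_zpowers x)
    exact mem_centralizer_singleton_iff.2 (hxb b hb.1)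
  · refine hK b hb.1 hb.2 _ (hY.conj_mem h hx hc.1) ?_
    have h1 : Commute c b := mem_centralizer_singleton_iff.1 hc.2
    exact ((h1.mul_left (hxb b hb.1)).mul_left h1.inv_left).eq

/-- inside a larger subspace, `ρ` moves `x ∈ I` inside `I` iff it normalises `I` -/
theorem mem_iff_nrm {I : Set G} (h : IsN p r D) (hn : NA D) (hY : Sub r D Y)
    (hI : Sub r D I) (hs : I ⊆ Y) {x ρ : G} (hx : x ∈ I) (hρ : ρ ∈ RR Y) :
    ρ * x * ρ⁻¹ ∈ I ↔ ρ ∈ normalizer I := by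
  refine ⟨fun h1 => ?_, fun h1 => conj_mem_of_nrm h1 hx⟩
  obtain ⟨σ, hσ, e⟩ := hI.exists_conj_eq h hx hY.pg (hY.mem_nrm_RR h (hs hx)) (RR_mono hs) hρ h1
  have : σ⁻¹ * ρ ∈ EE Y := (hY.mem_EE_iff h hn (hs hx) (mul_mem (inv_mem (RR_mono hs hσ)) hρ)).2 (by
    calc _ = σ⁻¹ * (ρ * x * ρ⁻¹) * ρ := by group
      _ = _ := by rw [← e]; group)
  exact (mul_mem_cancel_left (inv_mem (hI.RR_le_nrm h hσ))).1
    (cen_le_nrm I (centralizer_le hs this.2))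

end CL.NF
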