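/-
Non-linear F-sets with abelian lines.
-/
import Cfsg.Agent.PERM.NF.Basic
import Cfsg.Agent.S0055
import Cfsg.Agent.S0144
import Cfsg.Agent.SOLV.MinNormal

set_option autoImplicit false

namespace CL.NF

open Subgroup CL.FS

variable {G : Type*} [Group G] [Finite G] {p r : ℕ} {D : Set G}

namespace Ab

omit [Finite G] in
theorem nr (h : IsN p r D) {x y : G} (hx : x ∈ D) (hy : y ∈ D) : x ∈ normalizer (RR {x, y} : Set G) :=
  (h.sub_line hx hy).2 ▸ (h.sub_line hx hy).1.mem_nrm_RR h ⟨hx, subset_closure (.inl rfl)⟩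

theorem ab1 (h : IsN p r D) (hab : AB D) {x y u ρ : G} (hx : x ∈ D) (hy : y ∈ D) (h1 : u ∈ zpowers x)
    (h0 : u ≠ 1) (hρ : ρ ∈ RR {x, y}) : ρ * u ∈ D := by
  have h2 := h.zp_symm hx h1 h0
  obtain ⟨l1, l2⟩ := h.sub_line hx hy
  have mx : x ∈ D ∩ (closure {x, y} : Subgroup G) := ⟨hx, subset_closure (.inl rfl)⟩
  have nx := zpowers_le.2 (nr h hx hy)
  have := hab x hx y hy
  have := Fact.mk h.rp
  obtain ⟨n, hn⟩ := (h.pg x hx y hy).exists_card_eq
  have e := (Cfsg.Agent.S0055.result (zpowers x) (RR {x, y}) nx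
    (by rw [Nat.card_zpowers, h.ord x hx, hn]; exact h.cop.pow_right n)).1
  rw [show ⁅RR {x, y}, zpowers x⁆ = RR {x, y} from l2 ▸ l1.RR_eq h mx] at e
  let f : RR {x, y} → RR {x, y} := fun σ => ⟨σ * (u * (σ : G)⁻¹ * u⁻¹), mul_mem σ.2 (conj_mem_of_nrm (nx h1) (inv_mem σ.2))⟩
  obtain ⟨σ, hσ⟩ := Finite.surjective_of_injective (f := f) (fun σ τ e' => by
    have m := mul_mem (inv_mem τ.2) σ.2
    have c : Commute u ((τ : G)⁻¹ * σ) := by
      have : (σ : G) * (u * (σ : G)⁻¹ * u⁻¹) = τ * (u * (τ : G)⁻¹ * u⁻¹) := congrArg Subtype.val e'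
      calc u * ((τ : G)⁻¹ * σ) = (τ : G)⁻¹ * (τ * (u * (τ : G)⁻¹ * u⁻¹)) * u * σ := by group
        _ = _ := by rw [← this]; group
    refine Subtype.ext (inv_mul_eq_one.1 (mem_bot.1 (e.le ⟨⟨m, fun a ha => ?_⟩, m⟩))).symm
    obtain ⟨i, rfl⟩ := zpowers_le.2 h2 ha
    exact c.zpow_left i) ⟨ρ, hρ⟩
  rw [show ρ * u = σ * u * (σ : G)⁻¹ by rw [← show _ = ρ from congrArg Subtype.val hσ]; simp only [f]; group]
  exact h.conj _ (h.pw x hx u h1 h0) σ

theorem ab2 (h : IsN p r D) (hab : AB D) {a b : G} (ha : a ∈ D) (hb : b ∈ D) :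
    a * b = 1 ∨ a * b ∈ D ∨ ∃ x ∈ D, ∃ y ∈ D, a * b ∈ RR {x, y} := by
  obtain ⟨k, hk, i, e⟩ := exists_of_mem_sup_zpowers (nr h ha hb) (mul_mem (mem_sup_right (mem_zpowers a))
    (h.subset_sup (Set.pair_subset ha hb) (.inl rfl) (.inr rfl)))
  rw [e]
  by_cases h1 : a ^ i = 1
  · exact .inr (.inr ⟨a, ha, b, hb, by rwa [h1, mul_one]⟩)
  · exact .inr (.inl (ab1 h hab ha hb ⟨i, rfl⟩ h1 hk))

theorem fin {K : Type*} [Group K] [Finite K] (hp : p.Prime) (hr : r.Prime)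
    (hc : ∀ s : ℕ, s.Prime → s ∣ Nat.card K → s = p ∨ s = r) (h2 : ¬ p ^ 2 ∣ Nat.card K) {E : Set K}
    (hE : closure E = ⊤) (hx : ∀ x ∈ E, x ^ p = 1) : IsPGroup r (commutator K) := by
  have := Fact.mk hp
  obtain ⟨a, m, hm, e⟩ := Nat.exists_eq_pow_mul_and_not_dvd (Nat.card_pos (α := K)).ne' p hp.ne_one
  have hm0 : m ≠ 0 := fun h => hm (h ▸ dvd_zero p)
  have := Cfsg.Agent.S0144.result (G := K) p r a _ hp hr (e.trans (congrArg _ (Nat.eq_prime_pow_of_unique_prime_dvd (p := r) hm0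
    fun {d} hd hdm => (hc d hd (e ▸ hdm.mul_left _)).resolve_left fun e' => hm (e' ▸ hdm))))
  refine (CL.isPGroup_pCore r K).to_le (Subgroup.Normal.quotient_commutative_iff_commutator_le.1 ?_)
  rcases subsingleton_or_nontrivial (K ⧸ Cfsg.pCore r K) with hs | hs
  · exact ⟨⟨fun _ _ => Subsingleton.elim ..⟩⟩
  obtain ⟨s, hs, hN⟩ := CL.exists_pCore_ne_bot (K ⧸ Cfsg.pCore r K)
  have hd : ∀ P : Subgroup (K ⧸ Cfsg.pCore r K), Nat.card P ∣ Nat.card K := fun P =>
    (card_subgroup_dvd_card P).trans (card_quotient_dvd_card _)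
  have := Fact.mk hs
  obtain rfl : s = p := by
    obtain ⟨n, hn⟩ := (CL.isPGroup_pCore s (K ⧸ Cfsg.pCore r K)).exists_card_eq
    have : s ∣ Nat.card K := (dvd_pow_self s fun e => hN (by rwa [e, pow_zero, card_eq_one] at hn)).trans (hn ▸ hd _)
    exact (hc s hs this).resolve_right fun e => hN (e ▸ CL.pCore_quotient_pCore ..)
  have h1 : ∀ P : Subgroup (K ⧸ Cfsg.pCore r K), IsPGroup s P → P ≠ ⊥ → Nat.card P = s := fun P hP hb => by
    obtain ⟨n, hn⟩ := hP.exists_card_eq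
    match n, hn with
    | 0, hn => exact (hb (by rwa [pow_zero, card_eq_one] at hn)).elim
    | 1, hn => rwa [pow_one] at hn
    | n + 2, hn => exact (h2 ((pow_dvd_pow s (by omega)).trans (hn ▸ hd P))).elim
  have h3 : Cfsg.pCore s (K ⧸ Cfsg.pCore r K) = ⊤ := by
    rw [eq_top_iff, ← map_top_of_surjective _ (QuotientGroup.mk'_surjective _), ← hE, map_le_iff_le_comap, closure_le]
    intro x hx'
    have hz : IsPGroup s (zpowers (QuotientGroup.mk' (Cfsg.pCore r K) x)) := IsPGroup.of_card_dvd_pow (n := 1) (by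
      rw [Nat.card_zpowers, pow_one]; exact orderOf_dvd_of_pow_eq_one (by rw [← map_pow, hx x hx', map_one]))
    have := eq_of_le_of_card_ge (le_sup_right : _ ≤ zpowers (QuotientGroup.mk' (Cfsg.pCore r K) x) ⊔ Cfsg.pCore s _) (by
      rw [h1 _ (CL.isPGroup_pCore s _) hN, h1 _ (hz.to_sup_of_normal_right (CL.isPGroup_pCore s _)) fun e =>
        hN (le_bot_iff.1 (le_sup_right.trans e.le))])
    exact this.ge (mem_sup_left (mem_zpowers _))
  have h4 := h1 _ (CL.isPGroup_pCore s _) hN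
  rw [h3, card_top] at h4
  have := isCyclic_of_prime_card h4
  exact IsCyclic.isMulCommutative

end Ab

/-- If all lines are abelian, every element of `⟨D⟩` is `1`, in `D`, or in a line group. -/
theorem IsN.ab_cover (h : IsN p r D) (hab : AB D) {g : G} (hg : g ∈ closure D) :
    g = 1 ∨ g ∈ D ∨ ∃ x ∈ D, ∃ y ∈ D, g ∈ RR {x, y} := by
  have key : ∀ c ∈ D, ∀ v : G, (v = 1 ∨ v ∈ D ∨ ∃ x ∈ D, ∃ y ∈ D, v ∈ RR {x, y}) →
      v * c = 1 ∨ v * c ∈ D ∨ ∃ x ∈ D, ∃ y ∈ D, v * c ∈ RR {x, y} := by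
    rintro c hc v (rfl | hv | ⟨x, hx, y, hy, hv⟩)
    · exact .inr (.inl (by rwa [one_mul]))
    · exact Ab.ab2 h hab hv hc
    obtain ⟨w, hw, j, e⟩ := exists_of_mem_sup_zpowers (Ab.nr h hy hc)
      (h.subset_sup (Set.pair_subset hy hc) (.inl rfl) (.inr rfl))
    have m : y ^ j ∈ zpowers y := ⟨j, rfl⟩
    have h1 : y ^ j ≠ 1 := fun e' => h.ne_one hc (h.eq_one (h.pg y hy c hc) (by rw [e', mul_one] at e; exact e.symm ▸ hw) (h.pow_eq hc))
    have h2 : y ^ j * y ^ j ≠ 1 := fun e' => h1 (by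
      have := pow_gcd_eq_one.2 ⟨h.pow_zp hy m, (pow_two _).trans e'⟩
      rwa [((Nat.coprime_primes h.pp Nat.prime_two).2 h.p2).gcd_eq_one, pow_one] at this)
    have h3 := Ab.ab1 h hab hy hx (inv_mem m) (inv_ne_one.2 h1) (Set.pair_comm x y ▸ hv)
    have h4 := Ab.ab1 h hab hy hc (mul_mem m m) h2 (conj_mem_of_nrm (zpowers_le.2 (Ab.nr h hy hc) m) hw)
    have := Ab.ab2 h hab h3 h4
    rwa [show v * (y ^ j)⁻¹ * (y ^ j * w * (y ^ j)⁻¹ * (y ^ j * y ^ j)) = v * (w * y ^ j) by group, ← e] at this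
  induction hg using closure_induction_right with
  | one => exact .inl rfl
  | mul_right x _ y hy ih => exact key y hy x ih
  | mul_inv_cancel x _ y hy ih => exact key _ (h.pw y hy _ (inv_mem (mem_zpowers y)) (inv_ne_one.2 (h.ne_one hy))) x ih

/-- If all lines are abelian then `⟨D⟩'` is an `r`-group. -/
theorem IsN.ab (h : IsN p r D) (hab : AB D) : IsPGroup r (RR D) := by
  have := Fact.mk h.pp
  rw [RR, ← map_subtype_commutator]
  refine (Ab.fin h.pp h.rp (fun s hs hd => ?_) (fun hd => ?_) (closure_preimage_eq_top D)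
    fun x hx => Subtype.ext (h.pow_eq hx)).map _
  · have := Fact.mk hs
    obtain ⟨g, hg⟩ := exists_prime_orderOf_dvd_card' s hd
    rw [← orderOf_coe] at hg
    rcases h.ab_cover hab g.2 with e | e | ⟨x, hx, y, hy, e⟩
    · exact (hs.ne_one (by rw [← hg, e, orderOf_one])).elim
    · exact .inl (hg.symm.trans (h.ord _ e))
    · obtain ⟨k, hk⟩ := h.pg x hx y hy ⟨_, e⟩
      exact .inr ((Nat.prime_dvd_prime_iff_eq hs h.rp).1 (hs.dvd_of_dvd_pow
        (hg ▸ orderOf_dvd_of_pow_eq_one (congrArg Subtype.val hk))))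
  · obtain ⟨P, hP⟩ := Sylow.exists_subgroup_card_pow_prime p hd
    have hD : ∀ g : P, g ≠ 1 → ((g : closure D) : G) ∈ D := fun g hg => by
      have h1 : ((g : closure D) : G) ≠ 1 := fun e => hg (Subtype.ext (Subtype.ext e))
      rcases h.ab_cover hab g.1.2 with e | e | ⟨x, hx, y, hy, e⟩
      · exact (h1 e).elim
      · exact e
      · obtain ⟨k, hk⟩ := h.pg x hx y hy ⟨_, e⟩
        have h2 : ((g : closure D) : G) ^ p ^ 2 = 1 := by
          rw [← hP]; exact congrArg (fun a : P => ((a : closure D) : G)) (pow_card_eq_one' (x := g))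
        have := pow_gcd_eq_one.2 ⟨h2, congrArg Subtype.val hk⟩
        rw [(Nat.Coprime.pow 2 k h.cop).gcd_eq_one, pow_one] at this
        exact (h1 this).elim
    have : Nontrivial P := Finite.one_lt_card_iff_nontrivial.1 (hP ▸ Nat.one_lt_pow two_ne_zero h.pp.one_lt)
    obtain ⟨z, hz⟩ := exists_ne (1 : P)
    have hle : P.map (closure D).subtype ≤ zpowers ((z : closure D) : G) := by
      rintro _ ⟨g, hg, rfl⟩
      by_cases e : (⟨g, hg⟩ : P) = 1
      · rw [show g = 1 from congrArg Subtype.val e, map_one]; exact one_mem _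
      · exact h.eq_of_comm (hD z hz) (hD _ e) (congrArg (fun a : P => ((a : closure D) : G))
          ((IsPGroup.isMulCommutative_of_card_eq_prime_sq hP).is_comm.comm z ⟨g, hg⟩))
    have := card_le_of_le hle
    rw [card_map_of_injective (subtype_injective _), hP, Nat.card_zpowers, h.ord _ (hD z hz)] at this
    have := h.pp.one_lt
    nlinarith

end CL.NF
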