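/-
The ZJ theorem modulo a central subgroup.
-/
import Cfsg.Agent.TECH.SylIn
import Cfsg.Agent.PLOC.ThompsonA
import Cfsg.Agent.S0664
import Cfsg.Agent.PLOC.QdFree
import Cfsg.Agent.PLOC.PStable
import Cfsg.Agent.TECH.Amb

set_option autoImplicit false

namespace CL.NF

open Subgroup CL.MSS
open scoped commutatorElement

/-- `W Q` is the preimage of `Z(J(Q̄))` for an `r`-group `Q`. -/
theorem exists_W {G : Type*} [Group G] [Finite G] {r : ℕ} (hr : r.Prime) (h2 : r ≠ 2) {Z : Subgroup G} (hZ : Z ≤ center G) :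
    ∃ W : Subgroup G → Subgroup G, (∀ (Q : Subgroup G) (g : G), W (g •ᶜ Q) = g •ᶜ W Q) ∧
      (∀ Q : Subgroup G, Z ≤ Q → W Q ≤ Q) ∧ (∀ Q : Subgroup G, ¬ Q ≤ Z → ¬ W Q ≤ Z) ∧
      ∀ K Q P : Subgroup G, Odd (Nat.card K) → SylIn r Q K → Z ≤ P → P ≤ Q → K ≤ normalizer (P : Set G) →
        (∀ k ∈ K, (∀ u ∈ P, ⁅k, u⁆ ∈ Z) → k ∈ P) → K ≤ normalizer (W Q : Set G) := by
  classical
  have := Fact.mk hr
  have : Z.Normal := ⟨fun z hz g => by rwa [mem_center_iff.1 (hZ hz) g, mul_inv_cancel_right]⟩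
  let π := QuotientGroup.mk' Z
  have sj : Function.Surjective π := QuotientGroup.mk'_surjective Z
  have kr : π.ker = Z := QuotientGroup.ker_mk' Z
  have cc : ∀ (g : G) (X : Subgroup (G ⧸ Z)), (π g •ᶜ X).comap π = g •ᶜ X.comap π := fun g X => by
    ext x; simp only [mem_comap, mem_cj, map_mul, map_inv]
  refine ⟨fun Q => if IsPGroup r Q then (Cfsg.centerThompsonAOf (Q.map π)).comap π else Q, fun Q g => ?_, fun Q hQ => ?_,
    fun Q hQ => ?_, fun K Q P hK hQ hZP hPQ hKP hc => ?_⟩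
  · simp only [isPGroup_cj_iff]
    split_ifs
    · rw [map_cj, ← cc, CL.ThA.map_centerThompsonAOf _ (MulAut.conj (π g)).injective]
    · rfl
  · simp only
    split_ifs
    · exact (comap_mono (CL.ThA.centerThompsonAOf_le _)).trans (by rw [comap_map_eq, kr]; exact sup_le le_rfl hQ)
    · rfl
  · simp only
    split_ifs with h
    · refine fun e => CL.ThA.centerThompsonAOf_ne_bot (h.map π) (fun e' => hQ (kr ▸ (Subgroup.map_eq_bot_iff _).1 e')) ?_
      rw [← map_comap_eq_self_of_surjective sj (Cfsg.centerThompsonAOf _), Subgroup.map_eq_bot_iff, kr]; exact e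
    · exact hQ
  · simp only [if_pos hQ.pgroup]
    have hP : P.map π ≤ Cfsg.pCoreOf r (K.map π) :=
      le_oP ((hQ.pgroup.to_le hPQ).map π) (map_mono (hPQ.trans hQ.le)) ((map_mono hKP).trans (le_normalizer_map π))
    have := CL.PC.le_normalizer_centerThompsonAOf_of_sylIn h2 (hQ.map π) (by
      rintro _ ⟨⟨k, hk, rfl⟩, h⟩
      refine hP (mem_map_of_mem π (hc k hk fun u hu => ?_))
      rw [← kr, MonoidHom.mem_ker, map_commutatorElement, commutatorElement_eq_one_iff_mul_comm]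
      exact (h _ (hP (mem_map_of_mem π hu))).symm) fun V hV hVp =>
      PSt.qstable_of_not_involves h2 (PSt.not_involves_qd_of_not_involves_sl2 (PSt.not_involves_sl2_of_odd h2
        (hK.of_dvd_nat (card_map_dvd ..)))) V hV hVp
    exact fun k hk => mem_normalizer_iff_cj.2 (by rw [← cc, cj_eq_of_mem_normalizer (this (mem_map_of_mem π hk))])

end CL.NF
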