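/-
Non-linear F-sets, minimal counterexample, `r` odd: blocks (port of PERM/FS/Blk).
-/
import Cfsg.Agent.PERM.NF.AB
import Cfsg.Agent.PERM.NF.ZJ
import Cfsg.Agent.PERM.FS.Blk
import Cfsg.Agent.PERM.FS.Cl2

set_option autoImplicit false
set_option linter.unusedSectionVars false

namespace CL.NF

open Subgroup CL.MSS CL.FS
open scoped commutatorElement

section

variable {G : Type*} [Group G] {p r : ℕ} {D : Set G}

theorem odd_sup [Finite G] {A B : Subgroup G} (hA : Odd (Nat.card A)) (hB : Odd (Nat.card B)) (h : A ≤ normalizer (B : Set G)) :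
    Odd (Nat.card (A ⊔ B : Subgroup G)) := by
  haveI : Fact (Nat.Prime 2) := ⟨Nat.prime_two⟩
  by_contra ho
  obtain ⟨⟨k, hk⟩, e⟩ := exists_prime_orderOf_dvd_card' 2 (Nat.not_odd_iff_even.1 ho).two_dvd
  rw [orderOf_mk] at e
  obtain ⟨a, ha, b, hb, rfl⟩ := (mem_sup_of_normalizes_right h).1 hk
  have h2 : a ^ 2 ∈ B := by
    have : a ^ 2 * (a⁻¹ * b * a * b) = 1 := by rw [← pow_orderOf_eq_one (a * b), e]; simp [pow_two, mul_assoc]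
    rw [eq_inv_of_mul_eq_one_left this]; exact inv_mem (mul_mem (conj_mem_of_normalizes' h ha hb) hb)
  obtain ⟨m, hm⟩ := exists_pow_eq_self_of_coprime (x := a) (n := 2) (hA.of_dvd_nat (orderOf_dvd_natCard A ha)).coprime_two_left
  have : a * b ∈ B := mul_mem (hm ▸ pow_mem h2 m) hb
  exact absurd (hB.of_dvd_nat (e ▸ orderOf_dvd_natCard B this)) (by decide)

theorem IsN.nrm_le_nrm_inter (h : IsN p r D) (K : Subgroup G) : normalizer (K : Set G) ≤ normalizer (D ∩ K) := fun g hg => by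
  rw [mem_nrm_iff, cjs_inter, h.cjs_eq, mem_nrm_iff.1 hg]

theorem IsN.cjs_inter_nrm (h : IsN p r D) (g : G) (P : Subgroup G) :
    cjs g (D ∩ (normalizer (P : Set G) : Subgroup G)) = D ∩ (normalizer ((g •ᶜ P : Subgroup G) : Set G) : Subgroup G) := by
  rw [cjs_inter, h.cjs_eq, ← cj_normalizer]
  ext y
  simp only [Set.mem_inter_iff, mem_cjs, SetLike.mem_coe, mem_cj]

theorem IsN.map_center (h : IsN p r D) (hz : ∀ x ∈ D, x ∉ center G) :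
    IsN p r (QuotientGroup.mk' (center G) '' D) := by
  haveI := Fact.mk h.pp
  have h1 : ∀ x ∈ D, QuotientGroup.mk' (center G) x ≠ 1 := fun x hx e => hz x hx ((QuotientGroup.eq_one_iff x).1 e)
  refine ⟨h.pp, h.p2, h.rp, h.ne, ?_, ?_, ?_, ?_, ?_⟩
  · rintro _ ⟨x, hx, rfl⟩
    exact orderOf_eq_prime (by rw [← map_pow, h.pow_eq hx, map_one]) (h1 x hx)
  · rintro _ ⟨x, hx, rfl⟩ g
    obtain ⟨g, rfl⟩ := QuotientGroup.mk'_surjective _ g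
    exact ⟨_, h.conj x hx g, by simp⟩
  · rintro _ ⟨x, hx, rfl⟩ _ ⟨i, rfl⟩ e
    exact ⟨x ^ i, h.pw x hx _ ⟨i, rfl⟩ fun e' => e (by simp only [← map_zpow, e', map_one]), map_zpow _ _ _⟩
  · rintro _ ⟨x, hx, rfl⟩ _ ⟨y, hy, rfl⟩
    rw [← RR_pair_map]; exact (h.pg x hx y hy).map _
  · rintro _ ⟨x, hx, rfl⟩ _ ⟨y, hy, rfl⟩
    obtain ⟨_, ⟨i, rfl⟩, a, b⟩ := h.mem x hx y hy
    refine ⟨_, ⟨i, (map_zpow _ _ _).symm⟩, h1 _ (h.pw y hy _ ⟨i, rfl⟩ a), ?_⟩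
    rw [← RR_pair_map, ← map_inv, ← map_mul]; exact mem_map_of_mem _ b

/-- the elements centralising `P` modulo the centre -/
def cmod (P : Subgroup G) : Subgroup G :=
  fixMod (normalizer (P : Set G)) (center G) P (nrm_center (G := G) ▸ le_top)

theorem conj_mem_cmod {P : Subgroup G} {g k : G} (hg : g ∈ normalizer (P : Set G)) (hk : k ∈ cmod P) : g * k * g⁻¹ ∈ cmod P :=
  ⟨mul_mem (mul_mem hg hk.1) (inv_mem hg), fun u hu => by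
    have : ⁅g * k * g⁻¹, u⁆ = g * ⁅k, g⁻¹ * u * g⁻¹⁻¹⁆ * g⁻¹ := by simp only [commutatorElement_def]; group
    have h2 := hk.2 _ (conj_mem_of_nrm (inv_mem hg) hu)
    rw [this, conj_of_center h2]; exact h2⟩

end

variable {G : Type*} [Group G] [Finite G] {p r : ℕ} {D Y Y' : Set G}

namespace St

variable (h : St p r D)
include h

omit [Finite G] in
theorem RR_top : RR D = commutator G := by rw [RR, h.gen]; rfl

/-- a normal `r`-subgroup is central -/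
theorem le_center {Q : Subgroup G} (hQ : IsPGroup r Q) (hn : Q.Normal) : Q ≤ center G :=
  (h.nrm Q hn).resolve_right fun hle => h.bad (hQ.to_le hle)

theorem not_mem_center {x : G} (hx : x ∈ D) : x ∉ center G := fun hc =>
  h.ne_one hx (h.eq_one h.zr hc (h.pow_eq hx))

theorem nt : NT D := by
  by_contra hn
  apply h.bad
  rw [← h.RR_top]
  rcases D.eq_empty_or_nonempty with e | ⟨x, hx⟩
  · rw [e, RR, Subgroup.closure_empty, commutator_bot_left]; exact IsPGroup.of_bot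
  · exact IsPGroup.of_bot.to_le (RR_le_of_subset_sup (K := ⊥) (x := x) (by rw [normalizer_eq_top]; trivial) fun y hy =>
      mem_sup_right (by_contra fun e => hn ⟨x, hx, y, hy, e⟩))

theorem sub_inter {K : Subgroup G} (hK : K ≠ ⊤) : Sub r D (D ∩ K) :=
  _root_.CL.NF.sub_inter (h.prop _ Set.inter_subset_left fun e =>
    hK (eq_top_iff.2 (e.ge.trans ((closure_le K).2 Set.inter_subset_right))))

theorem sub_Fx {t : G} (ht : t ∉ center G) : Sub r D (Fx D t) :=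
  h.sub_inter fun e => ht (mem_center_iff.2 fun g => mem_centralizer_singleton_iff.1 (e.ge (mem_top g)))

theorem closure_ne (hY : Sub r D Y) : closure Y ≠ ⊤ := fun e => h.bad (by
  have := hY.pg
  rwa [RR, e] at this)

theorem sub_of_blk (hY : Blk D Y) : Sub r D Y := by
  have h1 := h.sub_inter hY.ne
  have := hY.max _ h1.sub (Set.subset_inter hY.sub subset_closure) (h.closure_ne h1)
  rwa [this] at h1

theorem exists_blk (hD : Y ⊆ D) (hne : closure Y ≠ ⊤) : ∃ Y', Blk D Y' ∧ Y ⊆ Y' := by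
  obtain ⟨Y', h1, h2⟩ := Finite.exists_le_maximal (p := fun Y' : Set G => Y' ⊆ D ∧ closure Y' ≠ ⊤) ⟨hD, hne⟩
  exact ⟨Y', ⟨h2.1.1, h2.1.2, fun Y'' a b c => (h2.eq_of_le ⟨a, c⟩ b).symm⟩, h1⟩

theorem exists_blk_pair {x y : G} (hx : x ∈ D) (hy : y ∈ D) : ∃ Y, Blk D Y ∧ x ∈ Y ∧ y ∈ Y := by
  obtain ⟨Y, h1, h2⟩ := h.exists_blk (Set.pair_subset hx hy) fun e => h.bad (by
    have := h.pg x hx y hy
    rwa [RR, e] at this)
  exact ⟨Y, h1, h2 (by simp), h2 (by simp)⟩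

theorem blk_cj (hY : Blk D Y) (g : G) : Blk D (cjs g Y) := by
  have key : ∀ (g : G) (Y : Set G), closure Y ≠ ⊤ → closure (cjs g Y) ≠ ⊤ := fun g Y hY e => by
    rw [closure_cjs, cj_eq_top_iff] at e; exact hY e
  refine ⟨(cjs_mono g hY.sub).trans (h.cjs_eq g).subset, key g Y hY.ne, fun Y' h1 h2 h3 => ?_⟩
  have := hY.max (cjs g⁻¹ Y') ((cjs_mono _ h1).trans (h.cjs_eq _).subset)
    ((cjs_inv_cjs g Y).superset.trans (cjs_mono _ h2)) (key _ _ h3)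
  rw [← this, cjs_cjs_inv]

theorem eq_of_subset (hY : Blk D Y) (hY' : Blk D Y') (hs : Y ⊆ Y') : Y = Y' := (hY.max Y' hY'.sub hs hY'.ne).symm

theorem nrm_ne (hD : Y ⊆ D) (hne : Y.Nonempty) (hY : closure Y ≠ ⊤) : normalizer Y ≠ ⊤ := fun e => by
  obtain ⟨x, hx⟩ := hne
  refine hY (eq_top_iff.2 (h.gen.ge.trans ((closure_le _).2 fun y hy => ?_)))
  obtain ⟨ρ, -, h1⟩ := h.exists_conj (hD hx) hy
  exact zpowers_le.2 (subset_closure (conj_mem_of_nrm (e.ge (mem_top ρ)) hx)) h1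

/-- a non-central element centralising a block fixes exactly its points -/
theorem Fx_eq (hY : Blk D Y) {c : G} (hc : c ∈ centralizer Y) (hz : c ∉ center G) : Fx D c = Y :=
  hY.max _ Set.inter_subset_left (fun y hy => mem_Fx.2 ⟨hY.sub hy, mem_centralizer_iff.1 hc y hy⟩)
    (h.closure_ne (h.sub_Fx hz))

theorem nrm_of_comm (hY : Blk D Y) {c g : G} (hc : c ∈ centralizer Y) (hz : c ∉ center G) (hg : ⁅g, c⁆ ∈ center G) :
    g ∈ normalizer Y := by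
  have h1 : c ∈ centralizer (cjs g⁻¹ Y) := by
    rw [mem_cen_cjs]
    have : g⁻¹⁻¹ * c * g⁻¹ = ⁅g, c⁆ * c := by rw [commutatorElement_def]; group
    rw [this]; exact mul_mem (center_le_centralizer _ hg) hc
  have := (h.Fx_eq (h.blk_cj hY g⁻¹) h1 hz).symm.trans (h.Fx_eq hY hc hz)
  simpa using inv_mem (mem_nrm_iff.2 this)

theorem mem_center_of_cen (hY : Blk D Y) (hY' : Blk D Y') (hne : Y ≠ Y') {c : G} (hc : c ∈ centralizer Y)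
    (hc' : c ∈ centralizer Y') : c ∈ center G := by
  by_contra hz
  exact hne ((h.Fx_eq hY hc hz).symm.trans (h.Fx_eq hY' hc' hz))

theorem RR_pair_not_le {x y : G} (hx : x ∈ D) (hy : y ∈ D) (hxy : y ∉ zpowers x) : ¬ RR {x, y} ≤ center G := fun hle => by
  obtain ⟨ρ, hρ, e⟩ := h.exists_conj hx hy
  exact hxy (by rwa [← mem_center_iff.1 (hle hρ), mul_inv_cancel_right] at e)

theorem RR_not_le (hY : Y ⊆ D) (hn : NT Y) : ¬ RR Y ≤ center G := fun hle =>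
  let ⟨_, hx, _, hy, e⟩ := hn
  h.RR_pair_not_le (hY hx) (hY hy) e ((RR_mono (Set.pair_subset hx hy)).trans hle)

theorem nrm_ne_top {Q : Subgroup G} (hQ : IsPGroup r Q) (hz : ¬ Q ≤ center G) : normalizer (Q : Set G) ≠ ⊤ :=
  fun e => hz (h.le_center hQ (normalizer_eq_top_iff.1 e))

theorem blk_nt (hY : Blk D Y) : NT Y := by
  by_contra hn
  obtain ⟨x, hx, h1⟩ : ∃ x ∈ D, Y ⊆ zpowers x := by
    rcases Y.eq_empty_or_nonempty with e | ⟨x, hx⟩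
    · obtain ⟨x, hx⟩ := h.nt.nonempty
      exact ⟨x, hx, e ▸ Set.empty_subset _⟩
    · exact ⟨x, hY.sub hx, fun y hy => by_contra fun e => hn ⟨x, hx, y, hy, e⟩⟩
  obtain ⟨y, hy, hyx⟩ := h.exists_not_mem subset_rfl h.nt hx
  obtain ⟨Y', h2, h3, h4⟩ := h.exists_blk_pair hx hy
  have := h.eq_of_subset hY h2 fun z hz => (h.sub_of_blk h2).mem_of_zp h3 (hY.sub hz) (h1 hz)
  exact hyx (h1 (this ▸ h4))

/-- a non-trivial power of a point `x` does not act on `P / Z` as an inner automorphism -/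
theorem eq_one_of_cmod {J : Set G} (hJ : Sub r D J) (hn : NT J) {x : G} (hx : x ∈ J) {P : Subgroup G} (hP : IsPGroup r P)
    (hJP : RR J ≤ P) {u y : G} (hu : u ∈ P) (hy : y ∈ zpowers x) (e : u * y ∈ cmod P) : y = 1 := by
  by_contra y1
  have h1 : ∀ n : ℕ, u ^ n * y ^ n ∈ cmod P := fun n => by
    induction n with
    | zero => simp
    | succ n ih =>
      have : u ^ (n + 1) * y ^ (n + 1) = u * (u ^ n * y ^ n) * u⁻¹ * (u * y) := by rw [pow_succ' u, pow_succ y]; group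
      rw [this]; exact mul_mem (conj_mem_cmod (le_normalizer hu) ih) e
  obtain ⟨k, hk⟩ := isPGroup_iff_forall_mem.1 hP u hu
  have hyD := h.pw x (hJ.sub hx) y hy y1
  obtain ⟨m, hm⟩ := exists_pow_eq_self_of_coprime (x := y) (n := r ^ k) (by rw [h.ord y hyD]; exact h.cop.symm.pow_left k)
  have h2 : y ∈ cmod P := hm ▸ pow_mem (by simpa [hk] using h1 (r ^ k)) m
  refine h.RR_not_le hJ.sub hn ?_
  rw [← hJ.RR_eq h.toIsN (hJ.mem_of_zp hx hyD hy), commutator_comm]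
  exact commutator_le.2 fun a ha b hb => (zpowers_le.2 h2 ha).2 b (hJP hb)

variable (hr : r ≠ 2)
include hr

/-- (B3) by the ZJ theorem -/
theorem exists_max : ∃ W : Subgroup G → Subgroup G, (∀ (Q : Subgroup G) (g : G), W (g •ᶜ Q) = g •ᶜ W Q) ∧
    ∀ (J₀ : Set G) (x : G) (Q₀ : Subgroup G), Sub r D J₀ → NT J₀ → x ∈ J₀ → IsPGroup r Q₀ → x ∈ normalizer (Q₀ : Set G) → RR J₀ ≤ Q₀ →
      ∃ Q, SylIn r Q ⊤ ∧ Q₀ ≤ normalizer (W Q : Set G) ∧ J₀ ⊆ normalizer (W Q : Set G) ∧ normalizer (W Q : Set G) ≠ ⊤ := by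
  haveI := Fact.mk h.rp
  have F := h.toIsN
  obtain ⟨W, w1, w2, w3, w4⟩ := exists_W h.rp hr (le_refl (center G))
  refine ⟨W, w1, fun J₀ x Q₀ hJ₀ hn hx₀ hQ₀ hxQ hRQ => ?_⟩
  have hx := hJ₀.sub hx₀
  obtain ⟨P, h1, h2⟩ := Finite.exists_le_maximal
    (p := fun P : Subgroup G => IsPGroup r P ∧ x ∈ normalizer (P : Set G)) ⟨hQ₀, hxQ⟩
  have key : ∀ R : Subgroup G, IsPGroup r R → x ∈ normalizer (R : Set G) → IsPGroup r (P ⊔ R : Subgroup G) → R ≤ P :=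
    fun R a b c => le_sup_right.trans (h2.le_of_ge ⟨c,
      le_normalizer_sup (zpowers_le.2 h2.1.2) (zpowers_le.2 b) (mem_zpowers x)⟩ le_sup_left)
  have hZ : center G ≤ P := key _ h.zr (nrm_center (G := G) ▸ mem_top x) (h2.1.1.to_sup_of_normal_right h.zr)
  have hPZ : ¬ P ≤ center G := fun e => h.RR_not_le hJ₀.sub hn (hRQ.trans (h1.trans e))
  have hJ := h.sub_inter (h.nrm_ne_top h2.1.1 hPZ)
  set J := D ∩ (normalizer (P : Set G) : Subgroup G) with hJe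
  have hxJ : x ∈ J := ⟨hx, h2.1.2⟩
  have cJ : closure J ≤ normalizer (P : Set G) := (closure_le _).2 Set.inter_subset_right
  have hR : RR J ≤ P := key _ hJ.pg (hJ.mem_nrm_RR F hxJ)
    (isPGroup_sup_of_normalizes' h2.1.1 hJ.pg ((RR_le_closure _).trans cJ))
  have sub : ∀ I, Sub r D I → x ∈ I → RR I ≤ P → I ⊆ J := fun I a b c y hy =>
    ⟨a.sub hy, sup_le (c.trans le_normalizer) (zpowers_le.2 h2.1.2) (F.subset_sup a.sub b hy)⟩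
  have hJ₀J := sub J₀ hJ₀ hx₀ (hRQ.trans h1)
  have nJ := hn.mono hJ₀J
  have hPJ : P ≤ normalizer J := (le_normalizer.trans le_normalizer).trans (F.nrm_le_nrm_inter _)
  obtain ⟨Q, hQ, hPQ⟩ := exists_sylIn_ge h2.1.1 hPJ
  have nc : ∀ g ∈ normalizer J, g ∈ normalizer (closure J : Set G) := fun g hg =>
    mem_normalizer_iff_cj.2 (by rw [← closure_cjs, mem_nrm_iff.1 hg])
  have cm : ∀ g ∈ normalizer J, ∀ y ∈ J, ⁅g, y⁆ ∈ closure J := fun g hg y hy =>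
    mul_mem (subset_closure (conj_mem_of_nrm hg hy)) (inv_mem (subset_closure hy))
  have dec : ∀ g ∈ closure J, ∃ k ∈ RR J, ∃ i : ℤ, g = k * x ^ i := fun g hg =>
    exists_of_mem_sup_zpowers (hJ.mem_nrm_RR F hxJ) (hJ.closure_le F hxJ hg)
  set C := fixMod (normalizer J) (RR J) J (nrm_le_nrm_RR J) with hC
  have cC : closure J ≤ C := fun g hg => ⟨hJ.closure_le_nrm F hg, fun y hy => commutator_mem_commutator hg (subset_closure hy)⟩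
  have nC : ∀ g ∈ normalizer J, ∀ c ∈ C, g * c * g⁻¹ ∈ C := fun g hg c hc =>
    ⟨mul_mem (mul_mem hg hc.1) (inv_mem hg), fun y hy => by
      have : ⁅g * c * g⁻¹, y⁆ = g * ⁅c, g⁻¹ * y * g⁻¹⁻¹⁆ * g⁻¹ := by simp only [commutatorElement_def]; group
      rw [this]; exact conj_mem_of_nrm (nrm_le_nrm_RR J hg) (hc.2 _ (conj_mem_of_nrm (inv_mem hg) hy))⟩
  have hPC : P ≤ C := fun u hu => ⟨hPJ hu, fun y hy => by
    obtain ⟨k, hk, i, e⟩ := dec _ (cm u (hPJ hu) y hy)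
    have h3 : ⁅u, y⁆ ∈ P := by simpa [commutatorElement_def, mul_assoc] using mul_mem hu (conj_mem_of_nrm hy.2 (inv_mem hu))
    rw [e] at h3 ⊢
    rwa [F.eq_one h2.1.1 ((mul_mem_cancel_left (hR hk)).1 h3) (F.pow_zp hx ⟨i, rfl⟩), mul_one]⟩
  have hQC : Q ⊓ C ≤ P := key _ (hQ.pgroup.to_le inf_le_left) (mem_normalizer_of_cj_le (cj_le_iff_forall.2 fun c hc =>
    mem_inf.2 ⟨by
      have : x * c * x⁻¹ = ⁅c, x⁆⁻¹ * c := by rw [commutatorElement_def]; group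
      rw [this]; exact mul_mem (inv_mem (hPQ (hR (hc.2.2 x hxJ)))) (mem_inf.1 hc).1, nC x (hJ.mem_nrm F hxJ) c hc.2⟩))
    (hQ.pgroup.to_le (sup_le hPQ inf_le_left))
  have hQP : Q ≤ normalizer (P : Set G) := le_normalizer_of_cj_le fun q hq => cj_le_iff_forall.2 fun u hu =>
    hQC (mem_inf.2 ⟨mul_mem (mul_mem hq (hPQ hu)) (inv_mem hq), nC q (hQ.le hq) u (hPC hu)⟩)
  have hK : Q ⊔ closure J ≤ normalizer (W Q : Set G) := by
    refine w4 _ Q P (odd_sup (X6.odd_of_pg h.rp hr hQ.pgroup) ?_ fun q hq => nc q (hQ.le hq))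
      (hQ.of_le le_sup_left (sup_le hQ.le (hJ.closure_le_nrm F))) hZ hPQ (sup_le hQP cJ) fun k hk hc => ?_
    · refine Odd.of_dvd_nat ?_ (card_dvd_of_le ((hJ.closure_le F hxJ).trans (sup_comm _ _).le))
      exact odd_sup (by rw [Nat.card_zpowers, h.ord x hx]; exact h.pp.odd_of_ne_two h.p2) (X6.odd_of_pg h.rp hr hJ.pg)
        (zpowers_le.2 (hJ.mem_nrm_RR F hxJ))
    have k1 : k ∈ cmod P := ⟨sup_le hQP cJ hk, hc⟩
    have k2 : k ∈ normalizer J := sup_le hQ.le (hJ.closure_le_nrm F) hk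
    have k3 : k ∈ C := ⟨k2, fun y hy => by
      obtain ⟨ρ, hρ, i, e⟩ := dec _ (cm k k2 y hy)
      have h3 : ⁅k, y⁆ ∈ cmod P := by
        simpa [commutatorElement_def, mul_assoc] using mul_mem k1 (conj_mem_cmod hy.2 (inv_mem k1))
      rw [e] at h3 ⊢
      rwa [h.eq_one_of_cmod hJ nJ hxJ h2.1.1 hR (hR hρ) (zpow_mem_zpowers x i) h3, mul_one]⟩
    obtain ⟨q, hq, m, hm, rfl⟩ := (mem_sup_of_normalizes_right fun q hq => nc q (hQ.le hq)).1 hk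
    have q1 := hQC ⟨hq, (mul_mem_cancel_right (cC hm)).1 k3⟩
    obtain ⟨ρ, hρ, i, rfl⟩ := dec m hm
    rw [← mul_assoc] at k1 ⊢
    rw [h.eq_one_of_cmod hJ nJ hxJ h2.1.1 hR (mul_mem q1 (hR hρ)) (zpow_mem_zpowers x i) k1, mul_one]
    exact mul_mem q1 (hR hρ)
  have hN := h.nrm_ne_top (hQ.pgroup.to_le (w2 Q (hZ.trans hPQ))) (w3 Q fun e => hPZ (hPQ.trans e))
  have hJ₁ := h.sub_inter hN
  have s1 : J ⊆ D ∩ (normalizer (W Q : Set G) : Subgroup G) := fun y hy => ⟨hy.1, hK (mem_sup_right (subset_closure hy))⟩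
  have n1 : normalizer (W Q : Set G) ≤ normalizer (D ∩ (normalizer (W Q : Set G) : Subgroup G)) :=
    le_normalizer.trans (F.nrm_le_nrm_inter _)
  have e1 := Set.Subset.antisymm s1 (sub _ hJ₁ (s1 hxJ) (key _ hJ₁.pg (hJ₁.mem_nrm_RR F (s1 hxJ))
    (isPGroup_sup_of_normalizes h2.1.1 hJ₁.pg ((hPQ.trans (le_sup_left.trans hK)).trans (n1.trans (nrm_le_nrm_RR _))))))
  refine ⟨Q, hQ.of_normalizer_le le_top (inf_le_right.trans ?_), h1.trans (hPQ.trans (le_sup_left.trans hK)),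
    fun y hy => (s1 (hJ₀J hy)).2, hN⟩
  rw [e1]
  exact (normalizer_cj_invariant fun g hg => by rw [← w1, hg]).trans n1

theorem exists_max' : ∃ W : Subgroup G → Subgroup G, (∀ (Q : Subgroup G) (g : G), W (g •ᶜ Q) = g •ᶜ W Q) ∧
    (∀ Y, Blk D Y → ∃ Q, SylIn r Q ⊤ ∧ Y = D ∩ (normalizer (W Q : Set G) : Subgroup G)) ∧
    ∀ (J₀ : Set G) (x : G) (Q₀ : Subgroup G), Sub r D J₀ → NT J₀ → x ∈ J₀ → IsPGroup r Q₀ → x ∈ normalizer (Q₀ : Set G) → RR J₀ ≤ Q₀ →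
      ∃ Q, SylIn r Q ⊤ ∧ Q₀ ≤ normalizer (W Q : Set G) ∧ J₀ ⊆ normalizer (W Q : Set G) := by
  obtain ⟨W, w1, w2⟩ := h.exists_max hr
  refine ⟨W, w1, fun Y hY => ?_, fun J x Q a b c d e f => let ⟨Q, q1, q2, q3, _⟩ := w2 J x Q a b c d e f; ⟨Q, q1, q2, q3⟩⟩
  obtain ⟨x, hx⟩ := (h.blk_nt hY).nonempty
  have hS := h.sub_of_blk hY
  obtain ⟨Q, q1, -, q3, q4⟩ := w2 Y x _ hS (h.blk_nt hY) hx hS.pg (hS.mem_nrm_RR h.toIsN hx) le_rfl
  exact ⟨Q, q1, (hY.max _ Set.inter_subset_left (Set.subset_inter hY.sub q3) (h.closure_ne (h.sub_inter q4))).symm⟩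

/-- blocks are conjugate -/
theorem blk_conj (hY : Blk D Y) (hY' : Blk D Y') : ∃ g : G, cjs g Y = Y' := by
  haveI := Fact.mk h.rp
  obtain ⟨W, w1, w2, -⟩ := h.exists_max' hr
  obtain ⟨P, h1, h2⟩ := w2 Y hY
  obtain ⟨P', h3, h4⟩ := w2 Y' hY'
  obtain ⟨g, -, e⟩ := h1.exists_conj h3
  exact ⟨g, by rw [h2, h.cjs_inter_nrm, ← w1, e, ← h4]⟩

/-- an `r`-group normalised by a point `x` of a subspace `J` and normalising `J` normalises a block containing `J` -/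
theorem exists_blk_ge {J : Set G} (hJ : Sub r D J) (hn : NT J) {x : G} (hx : x ∈ J) {Q : Subgroup G} (hQ : IsPGroup r Q)
    (hxQ : x ∈ normalizer (Q : Set G)) (hQJ : Q ≤ normalizer J) : ∃ Y, Blk D Y ∧ J ⊆ Y ∧ Q ≤ normalizer Y := by
  haveI := Fact.mk h.rp
  obtain ⟨W, w1, w2, w3⟩ := h.exists_max' hr
  obtain ⟨P, h1, h2, h3⟩ := w3 J x _ hJ hn hx (isPGroup_sup_of_normalizes' hJ.pg hQ (hQJ.trans (nrm_le_nrm_RR J)))
    (le_normalizer_sup (zpowers_le.2 (hJ.mem_nrm_RR h.toIsN hx)) (zpowers_le.2 hxQ) (mem_zpowers x)) le_sup_left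
  obtain ⟨Y, hY, -⟩ := h.exists_blk_pair (hJ.sub hx) (hJ.sub hx)
  obtain ⟨P₀, h4, h5⟩ := w2 Y hY
  obtain ⟨g, -, rfl⟩ := h4.exists_conj h1
  refine ⟨_, ?_, Set.subset_inter hJ.sub h3, le_sup_right.trans (h2.trans (le_normalizer.trans (h.nrm_le_nrm_inter _)))⟩
  rw [w1, ← h.cjs_inter_nrm, ← h5]; exact h.blk_cj hY g

/-- (B5) -/
theorem EE_not_le (hY : Blk D Y) : ¬ EE Y ≤ center G := fun hle => by
  have key : ∀ Y', Blk D Y' → EE Y' ≤ center G := fun Y' hY' e he => by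
    obtain ⟨g, rfl⟩ := h.blk_conj hr hY hY'
    have := hle (mem_EE_cjs.1 he)
    have e1 : e = g * (g⁻¹ * e * g) * g⁻¹ := by group
    rw [e1, conj_of_center this]; exact this
  have h1 := (h.map_center fun x hx => h.not_mem_center hx).ab (by
    rintro _ ⟨x, hx, rfl⟩ _ ⟨y, hy, rfl⟩
    obtain ⟨Y', h2, h3, h4⟩ := h.exists_blk_pair hx hy
    rw [← RR_pair_map]
    refine ⟨⟨?_⟩⟩
    rintro ⟨_, a, ha, rfl⟩ ⟨_, b, hb, rfl⟩
    have h5 := RR_mono (Set.pair_subset h3 h4)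
    have := key Y' h2 ((h.sub_of_blk h2).comm_mem h.toIsN h.na (h5 ha) (h5 hb))
    refine Subtype.ext (commutatorElement_eq_one_iff_mul_comm.1 ?_)
    change ⁅QuotientGroup.mk' _ a, QuotientGroup.mk' _ b⁆ = 1
    rw [← map_commutatorElement]; exact (QuotientGroup.eq_one_iff _).2 this)
  rw [← RR_map, h.RR_top] at h1
  exact h.bad ((h1.comap_of_ker_isPGroup _ (by rw [QuotientGroup.ker_mk']; exact h.zr)).to_le (le_comap_map _ _))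

omit hr in
/-- a commutator of the intersection of two distinct blocks is central -/
theorem comm_inter {Y₁ Y₂ : Set G} (h₁ : Blk D Y₁) (h₂ : Blk D Y₂) (hne : Y₁ ≠ Y₂) {a b : G} (ha : a ∈ RR (Y₁ ∩ Y₂))
    (hb : b ∈ RR (Y₁ ∩ Y₂)) : ⁅a, b⁆ ∈ center G :=
  h.mem_center_of_cen h₁ h₂ hne
    ((h.sub_of_blk h₁).comm_mem h.toIsN h.na (RR_mono Set.inter_subset_left ha) (RR_mono Set.inter_subset_left hb)).2
    ((h.sub_of_blk h₂).comm_mem h.toIsN h.na (RR_mono Set.inter_subset_right ha) (RR_mono Set.inter_subset_right hb)).2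

/-- symmetry of bad pairs -/
theorem bad_symm (hY : Blk D Y) (hY' : Blk D Y') {e : G} (he : e ∈ EE Y') (heY : e ∈ normalizer Y) (hz : e ∉ center G) :
    ∃ f ∈ EE Y, f ∈ normalizer Y' ∧ f ∉ center G := by
  haveI := Fact.mk h.rp
  obtain ⟨f, h1, h2, h3⟩ := CL.HHS.exists_not_mem_commutator_mem
    ((h.sub_of_blk hY').pg.to_le (zpowers_le.2 he.1)) ((h.sub_of_blk hY).pg.to_le (EE_le_RR Y))
    (zpowers_le.2 (nrm_le_nrm_EE Y heY)) (h.EE_not_le hr hY)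
  exact ⟨f, h1, h.nrm_of_comm hY' he.2 hz (h3 e (mem_zpowers e)), h2⟩

omit hr in
theorem pg_Astar {Y₁ Y₂ : Set G} (h₁ : Blk D Y₁) (h₂ : Blk D Y₂) : IsPGroup r (Astar Y₁ Y₂) := by
  have h1 : IsPGroup r (RR Y₁ ⊔ (EE Y₂ ⊓ normalizer Y₁) : Subgroup G) := isPGroup_sup_of_normalizes' (h.sub_of_blk h₁).pg
    ((h.sub_of_blk h₂).pg.to_le (inf_le_left.trans (EE_le_RR _))) (inf_le_right.trans (nrm_le_nrm_RR _))
  refine (h1.to_sup_of_normal_right h.zr).to_le (sup_le_sup_right (sup_le_sup_right (sup_le ?_ ?_) _) _)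
  exacts [RR_mono Set.inter_subset_left, inf_le_left.trans (EE_le_RR _)]

omit hr in
theorem mem_nrm_Astar_pt {Y₁ Y₂ : Set G} (h₁ : Blk D Y₁) (h₂ : Blk D Y₂) {x : G} (hx₁ : x ∈ Y₁) (hx₂ : x ∈ Y₂) :
    x ∈ normalizer (Astar Y₁ Y₂ : Set G) := by
  have hI := (h.sub_of_blk h₁).inter (h.sub_of_blk h₂)
  refine mem_nrm_Astar (fun a ha => mem_Astar₁ (conj_mem_of_nrm (hI.mem_nrm_RR h.toIsN ⟨hx₁, hx₂⟩) ha))
    (fun a ha ha' => ?_) fun a ha ha' => ?_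
  · rw [mem_centralizer_iff.1 ha.2 x hx₁, mul_inv_cancel_right]; exact mem_Astar₂ ha ha'
  · rw [mem_centralizer_iff.1 ha.2 x hx₂, mul_inv_cancel_right]; exact mem_Astar₃ ha ha'

omit hr in
theorem f5_step {Y₁ Y₂ : Set G} (h₁ : Blk D Y₁) (h₂ : Blk D Y₂) (hne : Y₁ ≠ Y₂) {x : G} (hx₁ : x ∈ Y₁) (hx₂ : x ∈ Y₂)
    {e₂ : G} (he : e₂ ∈ EE Y₂) (heY : e₂ ∈ normalizer Y₁) (hz : e₂ ∉ center G) :
    ∃ y ∈ Y₁, y ∉ Y₂ ∧ y ∈ normalizer (Astar Y₁ Y₂ : Set G) := by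
  haveI := Fact.mk h.rp
  have hF := h.toIsN
  have S₁ := h.sub_of_blk h₁
  have S₂ := h.sub_of_blk h₂
  have hI := S₁.inter S₂
  have hxI : x ∈ Y₁ ∩ Y₂ := ⟨hx₁, hx₂⟩
  have r₁ : RR (Y₁ ∩ Y₂) ≤ RR Y₁ := RR_mono Set.inter_subset_left
  have r₂ : RR (Y₁ ∩ Y₂) ≤ RR Y₂ := RR_mono Set.inter_subset_right
  set U := RR (Y₁ ∩ Y₂) ⊔ EE Y₁ with hU
  have hUR : U ≤ RR Y₁ := sup_le r₁ (EE_le_RR _)
  have hdec : ∀ u ∈ U, ∃ a ∈ RR (Y₁ ∩ Y₂), ∃ e ∈ EE Y₁, a * e = u := fun u hu =>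
    (mem_sup_of_normalizes_right (r₁.trans (S₁.RR_le_nrm_EE hF))).1 hu
  have hRU : RR Y₁ ≤ normalizer (U : Set G) := le_normalizer_of_cj_le fun ρ hρ => cj_le_iff_forall.2 fun u hu => by
    have : ρ * u * ρ⁻¹ = ⁅ρ, u⁆ * u := by rw [commutatorElement_def]; group
    rw [this]; exact mul_mem (mem_sup_right (S₁.comm_mem hF h.na hρ (hUR hu))) hu
  have hnl : ¬ RR Y₁ ≤ U := fun hle => hne (h.eq_of_subset h₁ h₂ <| S₁.subset_of_conj' hF hx₁ S₂ fun ρ hρ => by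
    obtain ⟨a, ha, e, he, rfl⟩ := hdec ρ (hle hρ)
    rw [EE_mul_conj he hx₁]
    exact S₂.conj_mem hF hx₂ (r₂ ha))
  set B := EE Y₂ ⊓ normalizer Y₁ with hB
  set W := fixMod (RR Y₁) U B hRU with hW
  obtain ⟨ρ, hρ, hρU, hρB⟩ := CL.HHS.exists_not_mem_commutator_mem (P := B)
    (S₂.pg.to_le (inf_le_left.trans (EE_le_RR _))) S₁.pg (inf_le_right.trans (nrm_le_nrm_RR _)) hnl
  have hρW : ρ ∈ W := ⟨hρ, hρB⟩
  have hxB : ∀ b ∈ B, x * b = b * x := fun b hb => mem_centralizer_iff.1 hb.1.2 x hx₂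
  have hxW : x ∈ normalizer (W : Set G) := mem_nrm_fixMod (S₁.mem_nrm_RR hF hx₁)
    (le_normalizer_sup (zpowers_le.2 (hI.mem_nrm_RR hF hxI)) (zpowers_le.2 (nrm_le_nrm_EE _ (S₁.mem_nrm hF hx₁)))
      (mem_zpowers x)) hxB
  -- `[W, R_I] ≤ E₁*`
  have hWI : ∀ σ ∈ W, ∀ a ∈ RR (Y₁ ∩ Y₂), σ * a * σ⁻¹ ∈ Astar Y₁ Y₂ := fun σ hσ a ha => by
    have c1 := S₁.comm_mem hF h.na hσ.1 (r₁ ha)
    have : σ * a * σ⁻¹ = ⁅σ, a⁆ * a := by rw [commutatorElement_def]; group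
    rw [this]
    refine mul_mem (mem_Astar₂ c1 (h.nrm_of_comm h₂ he.2 hz ?_)) (mem_Astar₁ ha)
    obtain ⟨b, hb, e, he', hu⟩ := hdec _ (inv_mem (hσ.2 e₂ ⟨he, heY⟩))
    have c2 : e₂ * σ * e₂⁻¹ = b * (e * σ) := by rw [← mul_assoc, hu, commutatorElement_def]; group
    have c3 : e₂ * a * e₂⁻¹ = a := by rw [← EE_comm he (r₂ ha), mul_inv_cancel_right]
    have c4 : ⁅e * σ, a⁆ = ⁅σ, a⁆ := by
      calc ⁅e * σ, a⁆ = e * (σ * a * σ⁻¹) * e⁻¹ * a⁻¹ := by rw [commutatorElement_def]; group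
        _ = _ := by
          rw [← EE_comm he' (mul_mem (mul_mem hσ.1 (r₁ ha)) (inv_mem hσ.1)), mul_inv_cancel_right, commutatorElement_def]
    have c5 : e₂ * ⁅σ, a⁆ * e₂⁻¹ = ⁅σ, a⁆ * ⁅b, a⁆ := by
      calc e₂ * ⁅σ, a⁆ * e₂⁻¹ = ⁅e₂ * σ * e₂⁻¹, e₂ * a * e₂⁻¹⁆ := by simp only [commutatorElement_def]; group
        _ = b * ⁅e * σ, a⁆ * b⁻¹ * ⁅b, a⁆ := by rw [c2, c3]; simp only [commutatorElement_def]; group
        _ = _ := by rw [c4, EE_comm c1 (r₁ hb), mul_inv_cancel_right]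
    have c6 := h.comm_inter h₁ h₂ hne hb ha
    have c7 : ⁅⁅σ, a⁆, e₂⁆ = ⁅σ, a⁆ * ⁅b, a⁆⁻¹ * ⁅σ, a⁆⁻¹ := by
      calc ⁅⁅σ, a⁆, e₂⁆ = ⁅σ, a⁆ * (e₂ * ⁅σ, a⁆ * e₂⁻¹)⁻¹ := by rw [commutatorElement_def ⁅σ, a⁆]; group
        _ = _ := by rw [c5, mul_inv_rev, mul_assoc]
    rw [c7, conj_of_center (inv_mem c6)]; exact inv_mem c6
  set w := x⁻¹ * ρ * x * ρ⁻¹ with hw
  have hwW : w ∈ W := mul_mem (by simpa using conj_mem_of_nrm (inv_mem hxW) hρW) (inv_mem hρW)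
  have hwN : w⁻¹ ∈ normalizer (Astar Y₁ Y₂ : Set G) := by
    refine mem_nrm_Astar (hWI _ (inv_mem hwW)) (fun a ha ha' => ?_) fun f hf hf' => ?_
    · rw [EE_comm ha (inv_mem hwW.1), mul_inv_cancel_right]; exact mem_Astar₂ ha ha'
    · obtain ⟨a, ha, e, he', hu⟩ := hdec _ (hρB f ⟨hf, hf'⟩)
      have c1 : f * ρ * f⁻¹ = e⁻¹ * a⁻¹ * ρ := by rw [← mul_inv_rev, hu, commutatorElement_def]; group
      have c2 : f * x * f⁻¹ = x := by rw [← hxB f ⟨hf, hf'⟩, mul_inv_cancel_right]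
      have c3 : x⁻¹ * e⁻¹ * x = e⁻¹ := by
        rw [mul_assoc, ← mem_centralizer_iff.1 (inv_mem he'.2) x hx₁, inv_mul_cancel_left]
      have ha' : x⁻¹ * a⁻¹ * x ∈ RR (Y₁ ∩ Y₂) := by
        simpa using conj_mem_of_nrm (inv_mem (hI.mem_nrm_RR hF hxI)) (inv_mem ha)
      have c4 : f * w * f⁻¹ = x⁻¹ * a⁻¹ * x * w * a := by
        calc f * w * f⁻¹ = (f * x * f⁻¹)⁻¹ * (f * ρ * f⁻¹) * (f * x * f⁻¹) * (f * ρ * f⁻¹)⁻¹ := by rw [hw]; group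
          _ = (x⁻¹ * e⁻¹ * x) * ((x⁻¹ * a⁻¹ * x * w * a) * e) := by rw [c1, c2, hw]; group
          _ = _ := by rw [c3, EE_comm he' (mul_mem (mul_mem (r₁ ha') hwW.1) (r₁ ha)), inv_mul_cancel_left]
      have c5 : w⁻¹ * f * w⁻¹⁻¹ = w⁻¹ * (x⁻¹ * a⁻¹ * x) * w⁻¹⁻¹ * a * f := by
        calc w⁻¹ * f * w⁻¹⁻¹ = w⁻¹ * (f * w * f⁻¹) * f := by group
          _ = _ := by rw [c4]; group
      rw [c5]
      exact mul_mem (mul_mem (hWI _ (inv_mem hwW) _ ha') (mem_Astar₁ ha)) (mem_Astar₃ hf hf')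
  refine ⟨ρ * x * ρ⁻¹, S₁.conj_mem hF hx₁ hρ, fun hy => hρU ?_, ?_⟩
  · obtain ⟨a, ha, e⟩ := hI.exists_conj_eq hF hxI S₁.pg (S₁.mem_nrm_RR hF hx₁) r₁ hρ ⟨S₁.conj_mem hF hx₁ hρ, hy⟩
    have h4 : a⁻¹ * ρ ∈ EE Y₁ := (S₁.mem_EE_iff hF h.na hx₁ (mul_mem (inv_mem (r₁ ha)) hρ)).2 (by
      calc a⁻¹ * ρ * x = a⁻¹ * (ρ * x * ρ⁻¹) * ρ := by group
        _ = _ := by rw [← e]; group)
    simpa using mul_mem (mem_sup_left ha : a ∈ U) (mem_sup_right h4)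
  · have : ρ * x * ρ⁻¹ = x * w⁻¹⁻¹ := by rw [hw]; group
    rw [this]; exact mul_mem (h.mem_nrm_Astar_pt h₁ h₂ hx₁ hx₂) (inv_mem hwN)

/-- (F5): for distinct blocks with a common point, `EE Y' ∩ N(Y)` is central -/
theorem f5 (hY : Blk D Y) (hY' : Blk D Y') (hne : Y ≠ Y') {x : G} (hx : x ∈ Y) (hx' : x ∈ Y') {e : G}
    (he : e ∈ EE Y') (heY : e ∈ normalizer Y) : e ∈ center G := by
  by_contra hz
  obtain ⟨I, -, ⟨Y₁, Y₂, h₁, h₂, hne, hx₁, hx₂, ⟨e₂, he₂, he₂Y, hz₂⟩, rfl⟩, hmax⟩ := Finite.exists_le_maximal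
    (p := fun I : Set G => ∃ Y₁ Y₂, Blk D Y₁ ∧ Blk D Y₂ ∧ Y₁ ≠ Y₂ ∧ x ∈ Y₁ ∧ x ∈ Y₂ ∧
      (∃ e ∈ EE Y₂, e ∈ normalizer Y₁ ∧ e ∉ center G) ∧ I = Y₁ ∩ Y₂) ⟨Y, Y', hY, hY', hne, hx, hx', ⟨e, he, heY, hz⟩, rfl⟩
  obtain ⟨e₁, he₁, he₁Y, hz₁⟩ := h.bad_symm hr h₁ h₂ he₂ he₂Y hz₂
  obtain ⟨y₁, a₁, b₁, c₁⟩ := h.f5_step h₁ h₂ hne hx₁ hx₂ he₂ he₂Y hz₂
  obtain ⟨y₂, a₂, b₂, c₂⟩ := h.f5_step h₂ h₁ hne.symm hx₂ hx₁ he₁ he₁Y hz₁
  rw [Astar_comm] at c₂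
  have hA := h.pg_Astar h₁ h₂
  have hxA := h.mem_nrm_Astar_pt h₁ h₂ hx₁ hx₂
  have hJ := h.sub_inter (h.nrm_ne_top hA fun hle => hz₂ (hle (mem_Astar₃ he₂ he₂Y)))
  obtain ⟨Y₃, h₃, hJ₃, hA₃⟩ := h.exists_blk_ge hr hJ ⟨x, ⟨h₁.sub hx₁, hxA⟩, y₁, ⟨h₁.sub a₁, c₁⟩,
    fun e => b₁ ((h.sub_of_blk h₂).mem_of_zp hx₂ (h₁.sub a₁) e)⟩ ⟨h₁.sub hx₁, hxA⟩ hA hxA
    ((le_normalizer.trans le_normalizer).trans (h.nrm_le_nrm_inter _))
  have hx₃ : x ∈ Y₃ := hJ₃ ⟨h₁.sub hx₁, hxA⟩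
  have hI₃ : Y₁ ∩ Y₂ ⊆ Y₃ := ((h.sub_of_blk h₁).inter (h.sub_of_blk h₂)).subset_of_conj' h.toIsN ⟨hx₁, hx₂⟩ (h.sub_of_blk h₃)
    fun ρ hρ => conj_mem_of_nrm (hA₃ (mem_Astar₁ hρ)) hx₃
  have e1 : Y₃ = Y₁ := by
    by_contra hn
    exact b₁ (hmax ⟨Y₃, Y₁, h₃, h₁, hn, hx₃, hx₁, ⟨e₁, he₁, hA₃ (mem_Astar₂ he₁ he₁Y), hz₁⟩, rfl⟩
      (Set.subset_inter hI₃ Set.inter_subset_left) ⟨hJ₃ ⟨h₁.sub a₁, c₁⟩, a₁⟩).2
  have e2 : Y₃ = Y₂ := by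
    by_contra hn
    exact b₂ (hmax ⟨Y₃, Y₂, h₃, h₂, hn, hx₃, hx₂, ⟨e₂, he₂, hA₃ (mem_Astar₃ he₂ he₂Y), hz₂⟩, rfl⟩
      (Set.subset_inter hI₃ Set.inter_subset_right) ⟨hJ₃ ⟨h₂.sub a₂, c₂⟩, a₂⟩).1
  exact hne (e1.symm.trans e2)

/-- (TG): a subspace meeting the block `Y` and normalised by a non-central element of `EE Y` lies in `Y` -/
theorem tg (hY : Blk D Y) {e : G} (he : e ∈ EE Y) (hz : e ∉ center G) {J : Set G} (hJ : Sub r D J)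
    (heJ : e ∈ normalizer J) {x : G} (hx : x ∈ Y) (hxJ : x ∈ J) : J ⊆ Y := by
  by_cases hn : NT J
  swap
  · exact fun y hy => (h.sub_of_blk hY).mem_of_zp hx (hJ.sub hy) (by_contra fun e => hn ⟨x, hxJ, y, hy, e⟩)
  obtain ⟨Y₃, h₃, hJ₃, hQ⟩ := h.exists_blk_ge hr hJ hn hxJ ((h.sub_of_blk hY).pg.to_le (zpowers_le.2 he.1))
    (mem_normalizer_of_cj_le (by rw [cj_zpowers, mem_centralizer_iff.1 he.2 x hx, mul_inv_cancel_right])) (zpowers_le.2 heJ)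
  by_cases e1 : Y₃ = Y
  · exact e1 ▸ hJ₃
  · exact absurd (h.f5 hr h₃ hY e1 (hJ₃ hxJ) hx he (hQ (mem_zpowers e))) hz

theorem jl_core (hY : Blk D Y) {x y : G} (hxy : y ∉ zpowers x) (hx : x ∈ Y) (hy : y ∈ Y) {c : G}
    (hc : ∀ v ∈ RR {x, y}, ⁅c, v⁆ ∈ center G) : c * x * c⁻¹ ∈ Y := by
  have hT := (h.pg x (hY.sub hx) y (hY.sub hy)).to_sup_of_normal_right h.zr
  have hJ := h.sub_inter (h.nrm_ne_top hT fun hle => h.RR_pair_not_le (hY.sub hx) (hY.sub hy) hxy (le_sup_left.trans hle))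
  have hxT : x ∈ normalizer ((RR {x, y} ⊔ center G : Subgroup G) : Set G) :=
    le_normalizer_sup (zpowers_le.2 (mem_nrm_RR_pair x y)) (nrm_center (G := G) ▸ le_top) (mem_zpowers x)
  obtain ⟨e, he, hz⟩ := SetLike.not_le_iff_exists.1 (h.EE_not_le hr hY)
  have heT : e ∈ normalizer ((RR {x, y} ⊔ center G : Subgroup G) : Set G) := FS.St.mem_nrm_sup_center fun v hv => by
    rw [commutatorElement_eq_one_iff_mul_comm.2 (EE_comm he (RR_mono (Set.pair_subset hx hy) hv)).symm]; exact one_mem _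
  have hcT := FS.St.mem_nrm_sup_center hc
  exact h.tg hr hY he hz hJ (h.nrm_le_nrm_inter _ (le_normalizer heT)) hx ⟨hY.sub hx, hxT⟩
    ⟨h.conj x (hY.sub hx) c, mul_mem (mul_mem hcT hxT) (inv_mem hcT)⟩

/-- (JL1): a block containing two points of the intersection of two distinct blocks contains the intersection -/
theorem jl_sub {Y₁ Y₂ : Set G} (h₁ : Blk D Y₁) (h₂ : Blk D Y₂) (hne : Y₁ ≠ Y₂) {x y : G} (hxy : y ∉ zpowers x)
    (hx : x ∈ Y₁ ∩ Y₂) (hy : y ∈ Y₁ ∩ Y₂) (hY : Blk D Y) (hxY : x ∈ Y) (hyY : y ∈ Y) : Y₁ ∩ Y₂ ⊆ Y :=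
  ((h.sub_of_blk h₁).inter (h.sub_of_blk h₂)).subset_of_conj' h.toIsN hx (h.sub_of_blk hY) fun _ hρ =>
    h.jl_core hr hY hxy hxY hyY fun v hv => h.comm_inter h₁ h₂ hne hρ (RR_mono (Set.pair_subset hx hy) hv)

/-- (JL2) `u^⊥ ⊆ I`: if `U` is normalised by `x ∈ I = Y₁ ∩ Y₂`, some `u ∈ U` moves `x` to a second point of `I` and `[c, U]` is
central, then `c x c⁻¹ ∈ I` -/
theorem jl_perp {Y₁ Y₂ : Set G} (h₁ : Blk D Y₁) (h₂ : Blk D Y₂) (hne : Y₁ ≠ Y₂) {x : G} (hx : x ∈ Y₁ ∩ Y₂)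
    {U : Subgroup G} (hxU : x ∈ normalizer (U : Set G)) {u : G} (hu : u ∈ U) (hux : u * x * u⁻¹ ∉ zpowers x)
    (huI : u * x * u⁻¹ ∈ Y₁ ∩ Y₂) {c : G} (hc : ∀ v ∈ U, ⁅c, v⁆ ∈ center G) : c * x * c⁻¹ ∈ Y₁ ∩ Y₂ :=
  ⟨h.jl_core hr h₁ hux hx.1 huI.1 fun v hv => hc v (RR_pair_le hxU hu hv),
    h.jl_core hr h₂ hux hx.2 huI.2 fun v hv => hc v (RR_pair_le hxU hu hv)⟩

end St

end CL.NF
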