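/-
Non-linear F-sets, `r` odd: 2-elements are linear.
-/
import Cfsg.Agent.PERM.NF.Basic
import Cfsg.Agent.INV.TransferCtl

set_option autoImplicit false

namespace CL.NF

open Subgroup CL.FS

variable {G : Type*} [Group G] [Finite G] {p r : ℕ} {D Y : Set G}

namespace L2

omit [Finite G] in
theorem mem_nrm_zp (h : IsN p r D) {x g : G} (hx : x ∈ D) :
    g ∈ normalizer (zpowers x : Set G) ↔ g * x * g⁻¹ ∈ zpowers x :=
  ⟨fun e => conj_mem_of_nrm e (mem_zpowers x), fun e => CL.MSS.mem_normalizer_iff_cj.2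
    ((CL.MSS.cj_zpowers g x).trans (h.zp_eq hx (h.conj x hx g) e))⟩

theorem ctrl (h : IsN p r D) {x s a : G} (hx : x ∈ D) (h1 : s * x * s⁻¹ ∈ zpowers x)
    (h2 : a⁻¹ * s * a * x * (a⁻¹ * s * a)⁻¹ ∈ zpowers x) : a⁻¹ * s * a * x * (a⁻¹ * s * a)⁻¹ = s * x * s⁻¹ := by
  have hy := h.conj x hx a
  obtain ⟨y', m, n1, e⟩ := h.mem x hx _ hy
  obtain ⟨i, hi⟩ := mem_powers_iff_mem_zpowers.2 h1
  obtain ⟨j, hj⟩ := mem_powers_iff_mem_zpowers.2 h2
  simp only at hi hj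
  have hj' : s * (a * x * a⁻¹) * s⁻¹ = (a * x * a⁻¹) ^ j := by rw [conj_pow, hj]; group
  have hj'' : s * y' * s⁻¹ = y' ^ j := by
    obtain ⟨k, rfl⟩ := m
    simp only
    rw [← conj_zpow, hj', ← zpow_natCast, ← zpow_natCast, ← zpow_mul, ← zpow_mul, mul_comm]
  have e1 : (x ^ i)⁻¹ * y' ^ j ∈ RR {x, a * x * a⁻¹} := by
    have := mem_map_of_mem (MulAut.conj s).toMonoidHom e
    rw [RR_pair_map] at this
    simp only [MulEquiv.coe_toMonoidHom, MulAut.conj_apply] at this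
    rw [h.RR_pair_eq hy (hj' ▸ pow_mem (mem_zpowers _) j) (h.ne_one (h.conj _ hy s)), Set.pair_comm,
      h.RR_pair_eq hx h1 (h.ne_one (h.conj _ hx s)), Set.pair_comm] at this
    rw [hi, ← hj'']
    simpa [mul_assoc] using this
  have nx : x ∈ normalizer (RR {x, a * x * a⁻¹} : Set G) :=
    (h.sub_line hx hy).2 ▸ (h.sub_line hx hy).1.mem_nrm_RR h ⟨hx, subset_closure (.inl rfl)⟩
  have e2 : ∀ n : ℕ, (x ^ n)⁻¹ * y' ^ n ∈ RR {x, a * x * a⁻¹} := fun n => by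
    induction n with
    | zero => simp
    | succ n ih =>
      have := mul_mem (conj_mem_of_nrm (inv_mem nx) ih) e
      rw [pow_succ, pow_succ]
      simpa [mul_assoc] using this
  have e3 := h.eq_one (h.pg x hx _ hy) (mul_mem (inv_mem (e2 i)) e1) (by
    rw [show ((x ^ i)⁻¹ * y' ^ i)⁻¹ * ((x ^ i)⁻¹ * y' ^ j) = (y' ^ i)⁻¹ * y' ^ j by group]
    exact h.pow_zp hy (mul_mem (inv_mem (pow_mem m i)) (pow_mem m j)))
  rw [inv_mul_eq_one, mul_left_cancel_iff, pow_eq_pow_iff_modEq, h.ord _ (h.pw _ hy _ m n1), ← h.ord x hx,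
    ← pow_eq_pow_iff_modEq] at e3
  rw [← hi, ← hj, e3]

end L2

/-- The number of points is odd.

PROOF.  The index is the number of conjugates `g •ᶜ zpowers x`.  For such a point `P ≠ ⟨x⟩` choose a generator `y ∈ D` and `ρ ∈ RR {x, y}` with `P = ⟨ρ x ρ⁻¹⟩` (`IsN.exists_conj`, `zp_eq`) and put
`f P = ⟨ρ⁻¹ x ρ⟩`.  Work in the line `J = D ∩ ⟨x, y⟩` (`sub_line`), `R = RR J`, `E = EE J` central in `R` and centralising `x`; an element of `R` normalising `⟨x⟩` is in `E` (`Sub.mem_EE_of_zp`).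
`f P ≠ ⟨x⟩` as `ρ ∉ E`; `f P ≠ P`, else `ρ² ∈ E`, so `ρ ∈ E` (odd order).  If `y', ρ'` are chosen for `f P` then `y' ∈ J`, `ρ' ∈ R`, `ρ ρ' ∈ E`, so `ρ'⁻¹ x ρ' = ρ x ρ⁻¹`: `f` is a fixed point free
involution of the set of points `≠ ⟨x⟩`, whose number is therefore even (`Function.Involutive.card_fixedPoints`, `Finset.even_card_of_involution`, ...). -/
theorem IsN.odd_index (h : IsN p r D) (hn : NA D) (hr : r ≠ 2) {x : G} (hx : x ∈ D) :
    Odd (normalizer (zpowers x : Set G)).index := by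
  classical
  set N := normalizer (zpowers x : Set G) with hN
  have mN : ∀ g, g ∈ N ↔ g * x * g⁻¹ ∈ zpowers x := fun g => L2.mem_nrm_zp h hx
  have ex : ∀ c : G ⧸ N, ∃ ρ : G, ρ ∈ RR {x, ρ * x * ρ⁻¹} ∧ (ρ : G ⧸ N) = c := fun c => by
    obtain ⟨g, rfl⟩ := QuotientGroup.mk_surjective c
    obtain ⟨ρ, h1, h2⟩ := h.exists_conj hx (h.conj x hx g)
    refine ⟨ρ, h.RR_pair_eq (h.conj x hx ρ) h2 (h.ne_one (h.conj x hx g)) ▸ h1, QuotientGroup.eq.2 ((mN _).2 ?_)⟩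
    rw [← conj_mem_zpowers (g := ρ)]
    simpa [mul_assoc] using h2
  choose ρ h1 h2 using ex
  let f : Function.End (G ⧸ N) := fun c => ((ρ c)⁻¹ : G)
  have inv : f ^ 2 ^ 1 = 1 := funext fun c => by
    obtain ⟨l1, l2⟩ := h.sub_line hx (h.conj x hx (ρ c))
    have mx : x ∈ closure {x, ρ c * x * (ρ c)⁻¹} := subset_closure (.inl rfl)
    have e : (ρ c)⁻¹⁻¹ * ρ (f c) ∈ N := QuotientGroup.eq.1 (h2 (f c)).symm
    rw [inv_inv] at e
    have m := RR_le_closure _ (h1 c)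
    have m1 : ρ (f c) ∈ RR (D ∩ (closure {x, ρ c * x * (ρ c)⁻¹} : Subgroup G)) := by
      refine RR_mono (Set.pair_subset (Set.mem_inter hx mx) (Set.mem_inter (h.conj x hx _) ?_)) (h1 (f c))
      have := mul_mem (mul_mem (inv_mem m) (zpowers_le.2 mx ((mN _).1 e))) m
      simpa [mul_assoc] using this
    have m2 := l2.ge (h1 c)
    have m3 := EE_comm (l1.mem_EE_of_zp h hn ⟨hx, mx⟩ (mul_mem m2 m1) ((mN _).1 e)) m2
    change (((ρ (f c))⁻¹ : G) : G ⧸ N) = c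
    conv_rhs => rw [← h2 c]
    rw [QuotientGroup.eq, inv_inv, ← mul_left_cancel (m3.trans (mul_assoc ..))]
    exact e
  have fx : f.fixedPoints = {((1 : G) : G ⧸ N)} := by
    ext c
    change (((ρ c)⁻¹ : G) : G ⧸ N) = c ↔ c = _
    suffices (((ρ c)⁻¹ : G) : G ⧸ N) = ρ c ↔ (ρ c : G ⧸ N) = (1 : G) by rwa [h2 c] at this
    rw [QuotientGroup.eq, QuotientGroup.eq, inv_inv, mul_one, inv_mem_iff]
    refine ⟨fun e => ?_, fun e => mul_mem e e⟩
    obtain ⟨k, hk⟩ := h.pg x hx _ (h.conj x hx _) ⟨_, h1 c⟩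
    obtain ⟨m, hm⟩ := (h.rp.odd_of_ne_two hr).pow (n := k)
    have hk' : ρ c ^ r ^ k = 1 := congrArg Subtype.val hk
    rw [hm, pow_succ, pow_mul, pow_two, mul_eq_one_iff_inv_eq] at hk'
    exact hk' ▸ inv_mem (pow_mem e m)
  have := Fintype.ofFinite (G ⧸ N)
  have := Equiv.Perm.card_fixedPoints_modEq inv
  rw [Fintype.card_eq_nat_card, Fintype.card_eq_nat_card, fx, Nat.card_unique (α := ({((1 : G) : G ⧸ N)} : Set _))] at this
  exact Nat.odd_iff.2 this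

/-- Transfer: if `g x g⁻¹ = x ^ a` and `g ∈ G'` then `g ^ n` centralises `x`, `n` the number of points.

PROOF.  `N = N(⟨x⟩)`, `χ : N →* MulAut ⟨x⟩` (`Subgroup.normalizerMonoidHom`; commutative as `⟨x⟩` is cyclic) or `N →* (ZMod p)ˣ`.  If `s ∈ N` and `k⁻¹ s k ∈ N` then `χ (k⁻¹ s k) = χ s`: `s` normalises
`⟨x⟩`, `⟨y⟩` (`y = k x k⁻¹`) and `R = RR {x, y}`; let `s x s⁻¹ = x^a`, `s y s⁻¹ = y^b`, `y' ∈ ⟨y⟩#` with `x⁻¹ y' ∈ R`.  Then `x^(-a) y'^b ∈ R` (conjugate by `s`) and `x^(-a) y'^a ∈ R`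
(`⟨x,y⟩/R` is abelian), so `y'^a = y'^b` (`eq_one`) and `x^a = x^b`.  Now `CL.Iso.transfer_eq_pow_of_ctrl`; the transfer kills `G'`. -/
theorem IsN.pow_index_comm (h : IsN p r D) {x g : G} (hx : x ∈ D) (hg : g ∈ commutator G) (e : g * x * g⁻¹ ∈ zpowers x) :
    g ^ (normalizer (zpowers x : Set G)).index * x = x * g ^ (normalizer (zpowers x : Set G)).index := by
  let χ := (IsCyclic.mulAutMulEquiv (zpowers x)).toMonoidHom.comp (zpowers x).normalizerMonoidHom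
  have hχ : ∀ a b, χ a = χ b ↔ (a : G) * x * (a : G)⁻¹ = b * x * (b : G)⁻¹ := fun a b => by
    refine (IsCyclic.mulAutMulEquiv (zpowers x)).injective.eq_iff.trans
      ⟨fun e => congrArg (fun f : MulAut (zpowers x) => (f ⟨x, mem_zpowers x⟩ : G)) e, fun e => ?_⟩
    ext ⟨_, i, rfl⟩
    change (a : G) * x ^ i * (a : G)⁻¹ = b * x ^ i * (b : G)⁻¹
    rw [← conj_zpow, e, conj_zpow]
  have hg' := (L2.mem_nrm_zp h hx).2 e
  have := CL.Iso.transfer_eq_pow_of_ctrl χ ⟨g, hg'⟩ fun k a ha => by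
    rw [← map_pow, hχ]
    exact L2.ctrl h hx ((L2.mem_nrm_zp h hx).1 (pow_mem hg' k)) ((L2.mem_nrm_zp h hx).1 ha)
  rw [show χ.transfer g = 1 from Abelianization.commutator_subset_ker _ hg, ← map_pow, ← map_one χ, hχ] at this
  exact mul_inv_eq_iff_eq_mul.1 (by simpa using this.symm)

theorem St.lin2 (h : St p r D) (hr : r ≠ 2) {x t : G} (hx : x ∈ D) (ht : IsPGroup 2 (zpowers t))
    (e : t * x * t⁻¹ ∈ zpowers x) : t * x = x * t := by
  have h1 := h.pow_index_comm hx (h.top.ge (mem_top t)) e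
  obtain ⟨k, hk⟩ := ht ⟨t, mem_zpowers t⟩
  have h2 : t ^ 2 ^ k = 1 := congrArg Subtype.val hk
  obtain ⟨m, hm⟩ := exists_pow_eq_self_of_coprime (x := t) (n := (normalizer (zpowers x : Set G)).index)
    (((h.odd_index h.na hr hx).coprime_two_right.pow_right k).coprime_dvd_right (orderOf_dvd_of_pow_eq_one h2))
  rw [← hm]
  exact ((show Commute _ x from h1).pow_left m).eq

/-- a 2-group normalising a non-empty subspace centralises a point -/
theorem St.fix1 (h : St p r D) (hr : r ≠ 2) (hY : Sub r D Y) (hne : Y.Nonempty) {Q : Subgroup G} (hQ : IsPGroup 2 Q)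
    (hQY : Q ≤ normalizer Y) : ∃ x ∈ Y, Q ≤ centralizer {x} := by
  obtain ⟨x, hx, e⟩ := hY.fix0 h.toIsN hne Nat.prime_two hr.symm hQ hQY
  exact ⟨x, hx, fun q hq => mem_centralizer_singleton_iff.2 (h.lin2 hr (hY.sub hx) (hQ.to_le (zpowers_le.2 hq)) (e q hq))⟩

end CL.NF
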