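/-
Non-linear F-sets: normal `r`-subgroups are central.
-/
import Cfsg.Agent.PERM.NF.Basic
import Cfsg.Agent.PERM.FS.QC

set_option autoImplicit false
set_option linter.unusedSectionVars false

namespace CL.NF

open Subgroup CL.FS

variable {G : Type*} [Group G] [Finite G] {p r : ℕ} {D : Set G}

namespace Qn

omit [Finite G] in
theorem sy {x y : G} (e : x⁻¹ * y ∈ RR {x, y}) : y⁻¹ * x ∈ RR {y, x} := by
  rw [Set.pair_comm]; simpa using inv_mem e

omit [Finite G] in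
theorem cj {x y : G} (g : G) (e : x⁻¹ * y ∈ RR {x, y}) :
    (g * x * g⁻¹)⁻¹ * (g * y * g⁻¹) ∈ RR {g * x * g⁻¹, g * y * g⁻¹} := by
  have := mem_map_of_mem (MulAut.conj g).toMonoidHom e
  rw [RR_pair_map] at this
  simpa [mul_assoc] using this

omit [Finite G] in
theorem ex (h : IsN p r D) {x y : G} (hx : x ∈ D) (hy : y ∈ D) :
    ∃ y' ∈ zpowers y, y' ≠ 1 ∧ x⁻¹ * y' ∈ RR {x, y'} := by
  obtain ⟨y', h1, h2, h3⟩ := h.mem x hx y hy
  exact ⟨y', h1, h2, (h.RR_pair_eq hy h1 h2).symm ▸ h3⟩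

variable {R : Type*} [Ring R]

/-- `e` is the projection onto `[M, X]` -/
structure P (X e : R) : Prop where
  l : (X - 1) * e = X - 1
  r : e * (X - 1) = X - 1
  fl : ∃ f, e = f * (X - 1)
  fr : ∃ f, e = (X - 1) * f

theorem P.comm {X e : R} (h : P X e) : e * X = X * e := by
  linear_combination (norm := noncomm_ring) h.r - h.l

theorem P.idem {X e : R} (h : P X e) : e * e = e := by
  obtain ⟨f, hf⟩ := h.fl
  linear_combination (norm := noncomm_ring) hf * e - hf + f * h.l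

theorem exP {u : ℤ} (hu : (u : R) * p = 1) {X : R} (hX : X ^ p = 1) : ∃ e, P X e := by
  have key : ∀ n : ℕ, ∃ f : R, (n : R) - ∑ i ∈ Finset.range n, X ^ i = f * (X - 1) ∧
      (n : R) - ∑ i ∈ Finset.range n, X ^ i = (X - 1) * f := fun n => by
    induction n with
    | zero => exact ⟨0, by simp⟩
    | succ n ih =>
      obtain ⟨f, h1, h2⟩ := ih
      refine ⟨f - ∑ i ∈ Finset.range n, X ^ i, ?_, ?_⟩
      · rw [sub_mul, geom_sum_mul, ← h1, Finset.sum_range_succ, Nat.cast_succ]; abel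
      · rw [mul_sub, mul_geom_sum, ← h2, Finset.sum_range_succ, Nat.cast_succ]; abel
  obtain ⟨f, h1, h2⟩ := key p
  have g1 := geom_sum_mul X p
  have g2 := mul_geom_sum X p
  rw [hX, sub_self] at g1 g2
  have c := fun a : R => Int.cast_comm u a
  refine ⟨1 - u * ∑ i ∈ Finset.range p, X ^ i, ?_, ?_, ⟨u * f, ?_⟩, ⟨u * f, ?_⟩⟩
  · rw [mul_sub, mul_one, ← mul_assoc, ← c, mul_assoc, g2, mul_zero, sub_zero]
  · rw [sub_mul, one_mul, mul_assoc, g1, mul_zero, sub_zero]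
  · rw [mul_assoc, ← h1, mul_sub, hu]
  · rw [← mul_assoc, ← c, mul_assoc, ← h2, mul_sub, hu]

theorem P.pw {X e : R} (h : P X e) {m n : ℕ} (hn : (X ^ m) ^ n = X) : P (X ^ m) e := by
  obtain ⟨f, hf⟩ := h.fl
  obtain ⟨f', hf'⟩ := h.fr
  refine ⟨?_, ?_, ⟨f * ∑ i ∈ Finset.range n, (X ^ m) ^ i, ?_⟩, ⟨(∑ i ∈ Finset.range n, (X ^ m) ^ i) * f', ?_⟩⟩
  · rw [← geom_sum_mul, mul_assoc, h.l]
  · rw [← mul_geom_sum, ← mul_assoc, h.r]
  · rw [mul_assoc, geom_sum_mul, hn, hf]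
  · rw [← mul_assoc, mul_geom_sum, hn, hf']

theorem P.cj {X e A B : R} (h : P X e) (h1 : A * B = 1) (h2 : B * A = 1) : P (A * X * B) (A * e * B) := by
  obtain ⟨f, hf⟩ := h.fl
  obtain ⟨f', hf'⟩ := h.fr
  have e0 : A * X * B - 1 = A * (X - 1) * B := by linear_combination (norm := noncomm_ring) h1
  refine ⟨?_, ?_, ⟨A * f * B, ?_⟩, ⟨A * f' * B, ?_⟩⟩ <;> rw [e0]
  · linear_combination (norm := noncomm_ring) A * (X - 1) * h2 * e * B + A * h.l * B
  · linear_combination (norm := noncomm_ring) A * e * h2 * (X - 1) * B + A * h.r * B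
  · linear_combination (norm := noncomm_ring) A * hf * B - A * f * h2 * (X - 1) * B
  · linear_combination (norm := noncomm_ring) A * hf' * B - A * (X - 1) * h2 * f' * B

theorem T {X Y e e' : R} (h : P X e) (h' : P Y e') (k : (Y - 1) * (X - Y) * (X - 1) = 0) : e' * e * X = Y * (e' * e) := by
  obtain ⟨f, hf⟩ := h.fr
  obtain ⟨f', hf'⟩ := h'.fl
  have : e' * (X - Y) * e = 0 := by
    rw [hf, hf']; linear_combination (norm := noncomm_ring) f' * k * f
  linear_combination (norm := noncomm_ring) this + e' * h.comm + h'.comm * e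

theorem RR' {X Y e e' : R} (h : P X e) (h' : P Y e') (k : (X - 1) * (Y - X) * (X - 1) = 0)
    (t : e * e' * Y = X * (e * e')) : e * e' * e = e := by
  obtain ⟨f, hf⟩ := h.fr
  obtain ⟨f', hf'⟩ := h.fl
  have h1 : e * (Y - X) * e = 0 := by
    linear_combination (norm := noncomm_ring) hf' * (Y - X) * e + f' * (X - 1) * (Y - X) * hf + f' * k * f
  have h2 : (X - 1) * (e * e' * e) = X - 1 := by
    linear_combination (norm := noncomm_ring) h1 + e * h'.r * e - t * e + h.r * e + h.l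
  linear_combination (norm := noncomm_ring) f' * h2 + hf' * (e * e' * e) - hf' - h.idem * e' * e

theorem fin {u : ℤ} (hu : (u : R) * p = 1) {a b Y Yi W Wi e : R} (hW : W ^ p = 1) (hWi : Wi ^ p = 1) (i : Y * Yi = 1) (i' : Yi * Y = 1)
    (h : P Y e) (h1 : P W e) (h2 : P Wi e) (ha : Y * a * Yi = a * W) (hb : Y * b * Yi = Wi * b) (cw : Y * W = W * Y)
    (ci : Y * Wi = Wi * Y) (ea : a * e = a) (eb : e * b = b) (s : a + b + (Y - 1) * (Yi - 1) = 0) : Y = 1 := by
  have key : ∀ n : ℕ, a * W ^ n + Wi ^ n * b + (Y - 1) * (Yi - 1) = 0 := fun n => by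
    induction n with
    | zero => simpa using s
    | succ n ih =>
      have c1 : W ^ n * Yi = Yi * W ^ n := by
        have := ((show Commute Y W from cw).pow_right n).eq
        linear_combination (norm := noncomm_ring) Yi * this * Yi - i' * W ^ n * Yi + Yi * W ^ n * i
      have c2 := ((show Commute Y Wi from ci).pow_right n).eq
      rw [pow_succ', pow_succ]
      linear_combination (norm := noncomm_ring) Y * ih * Yi - Y * a * c1 - ha * W ^ n - c2 * b * Yi - Wi ^ n * hb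
        - Y * i * Yi + Y * i + i + Y * i' * Yi - Y * i' * Yi + i * Yi - i - i
  obtain ⟨f, hf⟩ := h1.fl
  obtain ⟨f', hf'⟩ := h2.fr
  have g1 : a * ∑ i ∈ Finset.range p, W ^ i = 0 := by
    rw [← ea, hf, mul_assoc, mul_assoc, mul_geom_sum, hW, sub_self, mul_zero, mul_zero]
  have g2 : (∑ i ∈ Finset.range p, Wi ^ i) * b = 0 := by
    rw [← eb, hf', ← mul_assoc, ← mul_assoc, geom_sum_mul, hWi, sub_self, zero_mul, zero_mul]
  have g3 := Finset.sum_congr (rfl : Finset.range p = _) fun n _ => key n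
  rw [Finset.sum_add_distrib, Finset.sum_add_distrib, ← Finset.mul_sum, ← Finset.sum_mul, g1, g2, Finset.sum_const,
    Finset.card_range, Finset.sum_const_zero, nsmul_eq_mul] at g3
  have g4 : (Y - 1) * (Yi - 1) = 0 := by
    linear_combination (norm := noncomm_ring) u * g3 - hu * ((Y - 1) * (Yi - 1))
  obtain ⟨k, hk⟩ := h.fr
  have g5 : (Y - 1) * (Y - 1) = 0 := by linear_combination (norm := noncomm_ring) (Y - 1) * i' - g4 * Y
  have := h.l
  rw [hk, ← mul_assoc, g5, zero_mul] at this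
  exact (sub_eq_zero.1 this.symm)

theorem main (φ : G →* R) {k : ℕ} (hr : ((r ^ k : ℕ) : R) = 0) (h : IsN p r D)
    (rel : ∀ x ∈ D, ∀ y ∈ D, x⁻¹ * y ∈ RR {x, y} →
      (φ x - 1) * (φ y - φ x) * (φ x - 1) = 0 ∧ (φ y - 1) * (φ x - φ y) * (φ x - 1) = 0)
    {x y z y' : G} (hx : x ∈ D) (hy : y ∈ D) (hz : z ∈ D) (m : y' ∈ zpowers y) (n1 : y' ≠ 1) (n2 : y' ≠ y)
    (e1 : y⁻¹ * z ∈ RR {y, z}) (e2 : z⁻¹ * x ∈ RR {z, x}) (e3 : x⁻¹ * y' ∈ RR {x, y'}) : φ y = 1 := by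
  obtain ⟨u, v, huv⟩ := Nat.isCoprime_iff_coprime.2 (h.cop.pow_right k)
  have hu : (u : R) * p = 1 := by
    have := congrArg (Int.cast : ℤ → R) huv
    rwa [Int.cast_add, Int.cast_mul, Int.cast_mul, Int.cast_natCast, Int.cast_natCast, hr, mul_zero, add_zero,
      Int.cast_one] at this
  have pw : ∀ y ∈ D, φ y ^ p = 1 := fun y hy => by rw [← map_pow, h.pow_eq hy, map_one]
  have i1 : ∀ g, φ g * φ g⁻¹ = 1 := fun g => by rw [← map_mul, mul_inv_cancel, map_one]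
  have i2 : ∀ g, φ g⁻¹ * φ g = 1 := fun g => by rw [← map_mul, inv_mul_cancel, map_one]
  have zp : ∀ a ∈ D, ∀ b ∈ zpowers a, b ≠ 1 → ∀ e, P (φ a) e → P (φ b) e := fun a ha b hb h1 e he => by
    obtain ⟨n, hn⟩ := mem_powers_iff_mem_zpowers.2 (h.zp_symm ha hb h1)
    obtain ⟨m, rfl⟩ := mem_powers_iff_mem_zpowers.2 hb
    simp only at hn ⊢
    rw [map_pow]
    exact he.pw (n := n) (by rw [← map_pow, ← map_pow, hn])
  have tt : ∀ a ∈ D, ∀ b ∈ D, a⁻¹ * b ∈ RR {a, b} → ∀ e e', P (φ a) e → P (φ b) e' → e' * e * φ a = φ b * (e' * e) :=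
    fun a ha b hb c e e' he he' => T he he' (rel a ha b hb c).2
  have rr : ∀ a ∈ D, ∀ b ∈ D, ∀ e e', P (φ a) e → P (φ b) e' → e * e' * e = e := fun a ha b hb e e' he he' => by
    obtain ⟨b', h1, h2, h3⟩ := ex h ha hb
    have hb' := h.pw b hb b' h1 h2
    have he'' := zp b hb b' h1 h2 e' he'
    exact RR' he he'' (rel a ha b' hb' h3).1 (tt b' hb' a ha (sy h3) e' e he'' he)
  obtain ⟨ex, px⟩ := exP hu (pw x hx)
  obtain ⟨ey, py⟩ := exP hu (pw y hy)
  obtain ⟨ez, pz⟩ := exP hu (pw z hz)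
  have hy' := h.pw y hy y' m n1
  have py' := zp y hy y' m n1 ey py
  have pzi := zp z hz z⁻¹ (inv_mem (mem_zpowers z)) (inv_ne_one.2 (h.ne_one hz)) ez pz
  have mw : y' * y⁻¹ ∈ zpowers y := mul_mem m (inv_mem (mem_zpowers y))
  have nw : y' * y⁻¹ ≠ 1 := fun e => n2 (mul_inv_eq_one.1 e)
  have cy : y * y' = y' * y := by
    obtain ⟨i, rfl⟩ := m
    exact ((Commute.refl y).zpow_right i).eq
  have t1 := tt z hz y hy (sy e1) ez ey pz py
  have t2 := tt x hx z hz (sy e2) ex ez px pz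
  have t3 := tt y' hy' x hx (sy e3) ey ex py' px
  have s1 := tt y hy z hz e1 ey ez py pz
  have s2 := tt z hz x hx e2 ez ex pz px
  have s3 := tt x hx y' hy' e3 ex ey px py'
  have r0 := rr y hy _ (h.conj x hx z) ey _ py (by rw [map_mul, map_mul]; exact px.cj (i1 z) (i2 z))
  have r1 := rr y hy x hx ey ex py px
  have r2 := rr z hz x hx ez ex pz px
  have r3 := rr y hy z hz ey ez py pz
  have w1 : φ (y' * y⁻¹) = φ y' * φ y⁻¹ := map_mul ..
  have w2 : φ (y' * y⁻¹)⁻¹ = φ y * φ y'⁻¹ := by rw [mul_inv_rev, inv_inv, map_mul]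
  have s1' : φ z⁻¹ * (ez * ey) = ez * ey * φ y⁻¹ := by
    linear_combination (norm := noncomm_ring) φ z⁻¹ * s1 * φ y⁻¹ - φ z⁻¹ * (ez * ey) * i1 y + i2 z * (ez * ey) * φ y⁻¹
  have H1 : φ y * (ey * ez * ex * ey) = ey * ez * ex * ey * φ y' := by
    linear_combination (norm := noncomm_ring) -(t1 * ex * ey) + ey * pz.comm * ex * ey - ey * t2 * ey +
      ey * ez * px.comm * ey - ey * ez * t3
  have H2 : φ y' * (ey * ex * ez * ey) = ey * ex * ez * ey * φ y := by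
    linear_combination (norm := noncomm_ring) -(s3 * ez * ey) + ey * px.comm * ez * ey - ey * s2 * ey +
      ey * ex * pz.comm * ey - ey * ex * s1
  refine fin hu (a := (φ y - 1) * (ey * ez * ex * ey)) (b := ey * ex * ez * ey * (φ y⁻¹ - 1))
    (pw _ (h.pw y hy _ mw nw)) (pw _ (h.pw y hy _ (inv_mem mw) (inv_ne_one.2 nw))) (i1 y) (i2 y) py
    (zp y hy _ mw nw ey py) (zp y hy _ (inv_mem mw) (inv_ne_one.2 nw) ey py) ?_ ?_ ?_ ?_ ?_ ?_ ?_
  · rw [w1]
    linear_combination (norm := noncomm_ring) (φ y - 1) * H1 * φ y⁻¹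
  · rw [w2]
    linear_combination (norm := noncomm_ring) φ y * φ y'⁻¹ * H2 * φ y⁻¹ * (φ y⁻¹ - 1) -
      φ y * i2 y' * (ey * ex * ez * ey) * φ y⁻¹ * (φ y⁻¹ - 1) +
      φ y * φ y'⁻¹ * (ey * ex * ez * ey) * i1 y * (φ y⁻¹ - 1)
  · rw [← map_mul, ← map_mul, ← mul_assoc, cy]; congr 1; group
  · rw [← map_mul, ← map_mul]; congr 1
    rw [mul_inv_rev, inv_inv, mul_assoc, (show Commute y y' from cy).inv_right.eq]
  · linear_combination (norm := noncomm_ring) (φ y - 1) * ey * ez * ex * py.idem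
  · linear_combination (norm := noncomm_ring) py.idem * ex * ez * ey * (φ y⁻¹ - 1)
  · have A : ey * φ z = ey + (φ y - 1) * ey * ez := by linear_combination (norm := noncomm_ring) t1 - ey * pz.r
    have B : φ z⁻¹ * ey = ey + ez * ey * (φ y⁻¹ - 1) := by linear_combination (norm := noncomm_ring) s1' - pzi.l * ey
    linear_combination (norm := noncomm_ring) r0 - A * ex * (φ z⁻¹ * ey) - (ey + (φ y - 1) * ey * ez) * ex * B - r1 -
      (φ y - 1) * ey * r2 * ey * (φ y⁻¹ - 1) - (φ y - 1) * r3 * (φ y⁻¹ - 1) - py.l * (φ y⁻¹ - 1)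

end Qn

/-- A triangle with non-trivial holonomy. -/
theorem IsN.exists_tri (h : IsN p r D) (hgen : closure D = ⊤) (hl : ¬ Lin D) :
    ∃ x ∈ D, ∃ y ∈ D, ∃ z ∈ D, ∃ y' ∈ zpowers y, y' ≠ 1 ∧ y' ≠ y ∧ y⁻¹ * z ∈ RR {y, z} ∧ z⁻¹ * x ∈ RR {z, x} ∧ x⁻¹ * y' ∈ RR {x, y'} := by
  by_contra hc
  have tr : ∀ a ∈ D, ∀ b ∈ D, ∀ c ∈ D, a⁻¹ * b ∈ RR {a, b} → b⁻¹ * c ∈ RR {b, c} → a⁻¹ * c ∈ RR {a, c} :=
    fun a ha b hb c hc' e1 e2 => by
      obtain ⟨a', h1, h2, h3⟩ := Qn.ex h hc' ha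
      by_cases e : a' = a
      · exact Qn.sy (e ▸ h3)
      · exact (hc ⟨c, hc', a, ha, b, hb, a', h1, h2, e, e1, e2, h3⟩).elim
  let H : Subgroup G :=
    { carrier := {g | ∀ x ∈ D, x⁻¹ * (g * x * g⁻¹) ∈ RR {x, g * x * g⁻¹}}
      one_mem' := fun x _ => by simp
      mul_mem' := fun {g k} hg hk x hx => by
        have := tr _ hx _ (h.conj x hx k) _ (h.conj _ (h.conj x hx k) g) (hk x hx) (hg _ (h.conj x hx k))
        simpa [mul_assoc] using this
      inv_mem' := fun {g} hg x hx => by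
        have := Qn.sy (hg _ (h.conj x hx g⁻¹))
        simpa [mul_assoc] using this }
  have hH : closure D ≤ H := (closure_le H).2 fun y hy x hx => by
    obtain ⟨y', h1, h2, h3⟩ := Qn.ex h hx hy
    have e : y * y' * y⁻¹ = y' := by
      obtain ⟨i, rfl⟩ := h1
      exact mul_inv_eq_iff_eq_mul.2 ((Commute.refl y).zpow_right i).eq
    have := Qn.cj y h3
    rw [e] at this
    exact tr _ hx _ (h.pw y hy y' h1 h2) _ (h.conj x hx y) h3 (Qn.sy this)
  refine hl fun x hx g e => ?_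
  have := h.eq_one (h.pg x hx _ (h.conj x hx g)) (hH (hgen.ge (mem_top g)) x hx)
    (h.pow_zp hx (mul_mem (inv_mem (mem_zpowers x)) e))
  exact (eq_mul_inv_iff_mul_eq.1 (inv_mul_eq_one.1 this)).symm

/-- In the non-linear case every normal `r`-subgroup is central. -/
theorem IsN.le_center (h : IsN p r D) (hn : NA D) (hgen : closure D = ⊤) (hl : ¬ Lin D) {Q : Subgroup G} [Q.Normal]
    (hQ : IsPGroup r Q) : Q ≤ center G := by
  have := Fact.mk h.rp
  let c : G →* MulAut Q := MulAut.conjNormal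
  let φ : G →* AddMonoid.End (Additive (Abelianization Q)) :=
    { toFun := fun g => MonoidHom.toAdditive (Abelianization.map (c g).toMonoidHom)
      map_one' := by rw [map_one]; exact congrArg _ Abelianization.map_id
      map_mul' := fun a b => by rw [map_mul]; exact congrArg _ (Abelianization.map_comp (c b).toMonoidHom (c a).toMonoidHom).symm }
  let π : Q → Additive (Abelianization Q) := fun q => .ofMul (Abelianization.of q)
  have sj : ∀ m, ∃ q, π q = m := fun m => QuotientGroup.mk_surjective m.toMul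
  have ap : ∀ g q, (φ g - 1) (π q) = π (c g q * q⁻¹) := fun g q => by
    simp only [π, map_mul, map_inv, ofMul_mul, ofMul_inv, ← sub_eq_add_neg]; rfl
  obtain ⟨k, hk⟩ := hQ.exists_card_eq
  have key : ∀ x ∈ D, ∀ y ∈ D, ∀ u ∈ ({x, y} : Set G), ∀ v, u⁻¹ * v ∈ RR {x, y} →
      (φ u - 1) * (φ v - φ u) * (φ x - 1) = 0 := fun x hx y hy u hu v hv => by
    obtain ⟨l1, l2⟩ := h.sub_line hx hy
    have q1 := (h.pg x hx y hy).to_sup_of_normal_right hQ
    have q2 : x ∈ normalizer ((RR {x, y} ⊔ Q : Subgroup G) : Set G) := normalizer_le_normalizer_sup_normal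
      (l2 ▸ l1.mem_nrm_RR h ⟨hx, subset_closure (.inl rfl)⟩)
    obtain ⟨hJ, hJ'⟩ := h.sub_of_inv hx q1 q2
    have mx : x ∈ RR {x, y} ⊔ Q ⊔ zpowers x := mem_sup_right (mem_zpowers x)
    have mJ : ({x, y} : Set G) ⊆ D ∩ (RR {x, y} ⊔ Q ⊔ zpowers x : Subgroup G) := fun u hu =>
      ⟨Set.pair_subset hx hy hu, (sup_le_sup_right le_sup_left _ : RR {x, y} ⊔ zpowers x ≤ _)
        (h.subset_sup (Set.pair_subset hx hy) (.inl rfl) hu)⟩
    have e : (φ u - 1) * (φ (u⁻¹ * v) - 1) * (φ x - 1) = 0 := AddMonoidHom.ext fun m => by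
      obtain ⟨q, rfl⟩ := sj m
      have m1 := mJ (.inl rfl)
      have mq : (q : G) ∈ RR {x, y} ⊔ Q ⊔ zpowers x := mem_sup_left (mem_sup_right q.2)
      obtain ⟨ρ, hρ, eρ⟩ := hJ.exists_conj_eq h m1 q1 q2 hJ' (mem_sup_right q.2)
        ⟨h.conj x hx q, mul_mem (mul_mem mq mx) (inv_mem mq)⟩
      have m3 := conj_mem_of_nrm (hJ.mem_nrm_RR h m1) (inv_mem (eρ ▸ inv_mul_conj_mem m1 (RR_le_closure _ hρ)))
      rw [show x * (x⁻¹ * (q * x * (q : G)⁻¹))⁻¹ * x⁻¹ = x * q * x⁻¹ * (q : G)⁻¹ by group] at m3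
      have := (hJ.comm_mem h hn (RR_mono mJ hv) m3).2 u (mJ hu)
      change (φ u - 1) ((φ (u⁻¹ * v) - 1) ((φ x - 1) (π q))) = 0
      rw [ap, ap, ap, mul_inv_eq_one.2 (Subtype.ext (mul_inv_eq_iff_eq_mul.2 this))]
      rfl
    exact Qc.fin (by rw [← map_mul, mul_inv_cancel, map_one]) (map_mul φ u⁻¹ v ▸ e)
  obtain ⟨x, hx, y, hy, z, hz, y', m, n1, n2, e1, e2, e3⟩ := h.exists_tri hgen hl
  have e := Qn.main φ (k := k) (AddMonoidHom.ext fun a => by
      obtain ⟨q, rfl⟩ := sj a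
      change r ^ k • π q = 0
      rw [← ofMul_pow, ← map_pow, ← hk, pow_card_eq_one', map_one]; rfl) h
    (fun x hx y hy e => ⟨key x hx y hy x (.inl rfl) y e, key x hx y hy y (.inr rfl) x (by simpa using inv_mem e)⟩)
    hx hy hz m n1 n2 e1 e2 e3
  have hD : closure D ≤ centralizer (Q : Set G) := (closure_le _).2 fun g hg => by
    obtain ⟨ρ, -, hρ⟩ := h.exists_conj hy hg
    have eg : g ∈ φ.ker := zpowers_le.2 (φ.normal_ker.conj_mem y e ρ) hρ
    refine Cfsg.Agent.S0029.result (zpowers g) Q (le_top.trans (normalizer_eq_top Q).ge) ?_ (fun a ha q hq => ?_)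
      (mem_zpowers g)
    · obtain ⟨n, hn⟩ := (hQ.to_subgroup (frattini Q)).exists_card_eq
      rw [Nat.card_zpowers, hn, h.ord g hg]; exact h.cop.pow_right n
    · have := ap a ⟨q, hq⟩
      rw [show φ a = 1 from zpowers_le (H := φ.ker).2 eg ha, sub_self] at this
      exact ⟨_, PG.commutator_le_frattini hQ ((QuotientGroup.eq_one_iff _).1 this.symm), rfl⟩
  exact fun q hq => mem_center_iff.2 fun g => (hD (hgen.ge (mem_top g)) q hq).symm

end CL.NF
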