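/-
Non-linear F-sets, minimal counterexample, `r` odd: the contradiction (port of PERM/FS/OddB).
-/
import Cfsg.Agent.PERM.NF.OddA
import Cfsg.Agent.PERM.FS.OddB

set_option autoImplicit false

namespace CL.NF

open Subgroup CL.MSS Cfsg CL.FS CL.FS.X6
open scoped commutatorElement

variable {G : Type*} [Group G] [Finite G] {p r : ℕ} {D : Set G}

namespace St

variable (h : St p r D) (hr : r ≠ 2)
include h

omit [Finite G] h in
theorem ob_sub (t : G) : Fx D t ⊆ D := Set.inter_subset_left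

theorem ob_blk {t : G} (ht : t ∉ center G) : ∃ Y, Blk D Y ∧ Fx D t ⊆ Y :=
  h.exists_blk (ob_sub t) (h.closure_ne (h.sub_Fx ht))

/-- if only one block contains `Fx D u` it is normalised by `C(u)` -/
theorem ob_nrm {Y : Set G} {u g : G} (hY : Blk D Y) (hs : Fx D u ⊆ Y)
    (huq : ∀ Y', Blk D Y' → Fx D u ⊆ Y' → Y' = Y) (e : g * u = u * g) : g ∈ normalizer Y :=
  mem_nrm_iff.2 (huq _ (h.blk_cj hY g) (by
    rw [← mem_nrm_iff.1 (nrm_Fx h.toIsN e)]; exact cjs_mono g hs))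

omit [Finite G] in
theorem ob_le {M : Subgroup G} (hM : M ≠ ⊤) : ¬ commutator G ≤ M :=
  fun e => hM (top_le_iff.1 (h.top.ge.trans e))

theorem ob_move {I : Set G} (hI : Sub r D I) {x ρ : G} (hx : x ∈ I) (hρ : ρ ∈ RR I) (hn : ρ ∉ EE I) :
    ρ * x * ρ⁻¹ ∉ zpowers x := fun e => hn (hI.mem_EE_of_zp h.toIsN h.na hx hρ e)

include hr

theorem sig {Y Y₁ Y₂ : Set G} (hY : Blk D Y) (h₁ : Blk D Y₁) (h₂ : Blk D Y₂) (hne : Y₁ ≠ Y₂) (hI : Y₁ ∩ Y₂ ⊆ Y)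
    {S : Subgroup G} (hS : SylIn 2 S ⊤) (hSY : S ≤ normalizer Y) (hSI : S ≤ normalizer (Y₁ ∩ Y₂)) {t : G} (ht : orderOf t = 2)
    (htS : t ∈ S) (hSt : S ≤ centralizer {t}) (htI : Fx D t ⊆ Y₁ ∩ Y₂)
    (hall : ∀ s ∈ S, orderOf s = 2 → S ≤ centralizer {s} → s ∉ centralizer Y) {u : G} (hu : orderOf u = 2) (huS : u ∈ S) :
    Fx D u ⊆ Y := by
  have : Fact (Nat.Prime 2) := ⟨Nat.prime_two⟩
  by_contra hn
  have F := h.toIsN
  have sY := h.sub_of_blk hY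
  have sI := (h.sub_of_blk h₁).inter (h.sub_of_blk h₂)
  have c := cl2 F h.na sY
  have ho := odd_of_pg h.rp hr sY.pg
  have nt := h.Fx_nt hr ht
  obtain ⟨x, hx, hSx⟩ := h.fix1 hr sI (nt.nonempty.mono htI) hS.pgroup hSI
  have xc : ∀ s ∈ S, x * s = s * x := fun s hs => (mem_centralizer_singleton_iff.1 (hSx hs)).symm
  have xY := hI hx
  have xD := hY.sub xY
  have nR : ∀ g ∈ normalizer Y, g ∈ normalizer (RR Y : Set G) := fun g hg => nrm_le_nrm_RR Y hg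
  have nE : ∀ g ∈ normalizer Y, g ∈ normalizer (EE Y : Set G) := fun g hg => nrm_le_nrm_EE Y hg
  have xN : x ∈ normalizer Y := sY.closure_le_nrm F (subset_closure xY)
  have uR := nR u (hSY huS)
  have tR := nR t (hSY htS)
  have uu := sq_of_ord hu
  have tt := sq_of_ord ht
  have ut : u * t = t * u := mem_centralizer_singleton_iff.1 (hSt huS)
  have hE : ∀ e ∈ EE Y, e * u = u * e → e ∈ center G := fun e he e' =>
    by_contra fun hz => hn (h.typeG hr hY hu (hSY huS) he hz e')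
  have iff := fun ρ => mem_iff_nrm F h.na sY sI hI (ρ := ρ) hx
  have JL : ∀ C : Subgroup G, C ≤ RR Y → x ∈ normalizer (C : Set G) →
      (∀ a ∈ C, ∀ b ∈ C, ⁅a, b⁆ * u = u * ⁅a, b⁆) → ∀ a ∈ C, a ∉ EE Y → a ∈ normalizer (Y₁ ∩ Y₂) →
      C ≤ normalizer (Y₁ ∩ Y₂) := fun C h1 h2 h3 a ha ha' hb b hb' => (iff b (h1 hb')).1
    (h.jl_perp hr h₁ h₂ hne hx h2 ha (h.ob_move sY xY (h1 ha) ha') ((iff a (h1 ha)).2 hb)
      fun v hv => hE _ (c.cm _ (h1 hb') _ (h1 hv)) (h3 _ hb' _ hv))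
  have JP := JL (c.Rp uR) (fun _ ha => ha.1) (c.nrm_Rp uR (nR x xN) (nE x xN) (xc u huS))
    fun _ ha _ hb => c.cm_Rp uR ha hb
  have JM := JL (c.Rm uR) (fun _ ha => ha.1) (c.nrm_Rm uR (nR x xN) (nE x xN) (xc u huS))
    fun _ ha _ hb => c.cm_Rm uR ha hb
  have dec : ∀ ρ ∈ RR Y, ρ ∈ normalizer (Y₁ ∩ Y₂) → ∃ a ∈ RR Y ⊓ normalizer (Y₁ ∩ Y₂),
      ∃ b ∈ RR Y ⊓ normalizer (Y₁ ∩ Y₂), a ∈ c.Rp uR ∧ b ∈ c.Rm uR ∧ ρ = a * b := fun ρ h1 h2 =>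
    c.dec uR ho uu inf_le_left (nm_of fun a ha => mem_inf.2 ⟨nm uR ha.1,
      mul_mem (mul_mem (hSI huS) (mem_inf.1 ha).2) (inv_mem (hSI huS))⟩) ⟨h1, h2⟩
  have nb : ¬ (c.Rp uR ≤ normalizer (Y₁ ∩ Y₂) ∧ c.Rm uR ≤ normalizer (Y₁ ∩ Y₂)) := fun ⟨h1, h2⟩ => by
    have : Y ⊆ Y₁ ∩ Y₂ := sY.subset_of_conj' F xY sI fun ρ hρ => by
      obtain ⟨a, -, b, -, ha, hb, rfl⟩ := c.dec uR ho uu le_rfl uR hρ
      exact conj_mem_of_nrm (mul_mem (h1 ha) (h2 hb)) hx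
    exact hne ((h.eq_of_subset hY h₁ (this.trans Set.inter_subset_left)).symm.trans
      (h.eq_of_subset hY h₂ (this.trans Set.inter_subset_right)))
  obtain ⟨ρ₀, hρ₀, hyt, yx⟩ : ∃ ρ ∈ RR Y, ρ * x * ρ⁻¹ ∈ Fx D t ∧ ρ * x * ρ⁻¹ ∉ zpowers x := by
    obtain ⟨y, hyt, yx⟩ := F.exists_not_mem (ob_sub t) nt xD
    obtain ⟨ρ, hρ, e⟩ := sY.exists_conj F xY (hI (htI hyt))
    have := F.conj x xD ρ
    exact ⟨ρ, hρ, (h.sub_Fx (h.inv_not_center hr ht)).mem_of_zp hyt this (F.zp_symm this e (F.ne_one hyt.1)),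
      fun e' => yx (zpowers_le.2 e' e)⟩
  generalize ey : ρ₀ * x * ρ₀⁻¹ = y at hyt yx
  have hy := htI hyt
  obtain ⟨Y'', hY'', hs⟩ := h.ob_blk (h.inv_not_center hr hu)
  have ne : Y ≠ Y'' := fun e => hn (e ▸ hs)
  have xu : x ∈ Fx D u := mem_Fx.2 ⟨xD, xc u huS⟩
  have sY'' := h.sub_of_blk hY''
  have uq : ∀ z ∈ Y, z ∈ Fx D u → z ∉ zpowers x → ∀ g, g * u = u * g → g ∈ normalizer Y'' :=
    fun z hz hz' zx g => h.ob_nrm hY'' hs fun Y' hY' hs' => by_contra fun e => hn fun v hv =>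
      h.jl_sub hr hY' hY'' e zx ⟨hs' xu, hs xu⟩ ⟨hs' hz', hs hz'⟩ hY xY hz ⟨hs' hv, hs hv⟩
  have jl : ∀ z ∈ Y₁ ∩ Y₂, z ∈ Y'' → z ∉ zpowers x → Y ∩ Y'' ⊆ Y₁ ∩ Y₂ := fun z hz hz' zx =>
    Set.subset_inter (h.jl_sub hr hY hY'' ne zx ⟨xY, hs xu⟩ ⟨hI hz, hz'⟩ h₁ hx.1 hz.1)
      (h.jl_sub hr hY hY'' ne zx ⟨xY, hs xu⟩ ⟨hI hz, hz'⟩ h₂ hx.2 hz.2)
  by_cases hP : c.Rp uR ≤ normalizer (Y₁ ∩ Y₂)
  · have hM : ¬ c.Rm uR ≤ normalizer (Y₁ ∩ Y₂) := fun e => nb ⟨hP, e⟩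
    have mE : ∀ b ∈ c.Rm uR, b ∈ normalizer (Y₁ ∩ Y₂) → b ∈ EE Y := fun b hb hb' =>
      by_contra fun e => hM (JM b hb e hb')
    have Iu : Y₁ ∩ Y₂ ⊆ Fx D u := sI.subset_of_conj' F hx (h.sub_Fx (h.inv_not_center hr hu)) fun ρ hρ' => by
      have hρ := RR_mono hI hρ'
      obtain ⟨a, -, b, hb', ha, hb, e⟩ := dec ρ hρ (sI.RR_le_nrm F hρ')
      exact mem_Fx.2 ⟨F.conj x xD ρ, (comm_iff F h.na sY xY uR (xc u huS) hρ).2
        (e ▸ mul_mem ha (c.E_le_Rp uR (nE u (hSY huS)) (mE b hb hb'.2)))⟩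
    have une : u ≠ t := fun e => hn (e ▸ htI.trans hI)
    have hut : orderOf (u * t) = 2 := ord_of_sq (V4_sq uu tt ut _ (.inr (.inr (.inr rfl))))
      fun e => une (by rw [eq_inv_of_mul_eq_one_left e, inv_eq_of_mul_eq_one_right tt])
    have Fut : Fx D (u * t) ⊆ Y := by
      obtain ⟨w, hw, hw'⟩ := SetLike.not_le_iff_exists.1 hM
      have wt : w ∈ c.Rm tR := by
        obtain ⟨a, ha, b, -, ha', hb', rfl⟩ := c.dec tR ho tt (R' := c.Rm uR) (fun _ ha => ha.1)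
          (c.nrm_Rm uR tR (nE t (hSY htS)) ut.symm) hw
        exact mul_mem (c.E_le_Rm tR (nE t (hSY htS)) (mE a ha ((iff a ha.1).1 (htI (mem_Fx.2
          ⟨F.conj x xD a, (comm_iff F h.na sY xY tR (xc t htS) ha.1).2 ha'⟩))))) hb'
      obtain ⟨ρ, hρ, e⟩ : ∃ ρ ∈ RR Y, ρ * x * ρ⁻¹ = y := ⟨ρ₀, hρ₀, ey⟩
      have : ∃ v ∈ c.Rp uR ⊓ c.Rp tR, ⁅w, v⁆ ∉ center G := by
        by_contra! hc
        exact hw' ((iff w hw.1).1 (h.jl_perp hr h₁ h₂ hne hx (U := c.Rp uR ⊓ c.Rp tR)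
          (le_normalizer_inf (zpowers_le.2 (c.nrm_Rp uR (nR x xN) (nE x xN) (xc u huS)))
            (zpowers_le.2 (c.nrm_Rp tR (nR x xN) (nE x xN) (xc t htS))) (mem_zpowers x))
          (u := ρ) ⟨(comm_iff F h.na sY xY uR (xc u huS) hρ).1 (e ▸ (mem_Fx.1 (Iu hy)).2),
            (comm_iff F h.na sY xY tR (xc t htS) hρ).1 (e ▸ (mem_Fx.1 hyt).2)⟩
          (e ▸ yx) (e ▸ hy) hc))
      obtain ⟨v, hv, hz⟩ := this
      exact h.typeG hr hY hut (hSY (mul_mem huS htS)) (c.cm _ hw.1 _ hv.1.1) hz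
        (c.cm_Rp (mul_mem uR tR) (c.mm_mul uR tR (nE u (hSY huS)) hw wt)
          (c.pp_mul uR tR (nE u (hSY huS)) hv.1 hv.2))
    have N := uq y (hI hy) (Iu hy) yx
    have cu : Y'' ⊆ centralizer {u} := sY''.gen F h.na (hs xu) (ab_sq (V4_sq uu tt ut))
      (V4_not_cyclic uu tt ut (ne_of_ord hu) (ne_of_ord ht) une)
      (cop_two h.rp hr (pg_sq (V4_sq uu tt ut))) (V4_le uu tt ut (N u rfl) (N t ut.symm))
      (V4_le uu tt ut (hSx huS) (hSx htS)) (by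
        rintro b (rfl | rfl | rfl | rfl) b1 z hz e
        · exact absurd rfl b1
        · exact mem_centralizer_singleton_iff.2 e
        · exact (Iu (htI (mem_Fx.2 ⟨hY''.sub hz, e⟩))).2
        · exact (Iu (jl y hy (hs (Iu hy)) yx ⟨Fut (mem_Fx.2 ⟨hY''.sub hz, e⟩), hz⟩)).2)
    obtain ⟨g, eg⟩ := h.blk_conj hr hY'' hY
    have gu : g * u * g⁻¹ ∈ centralizer Y := by
      rw [← eg, mem_cen_cjs, show g⁻¹ * (g * u * g⁻¹) * g = u by group]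
      exact fun z hz => mem_centralizer_singleton_iff.1 (cu hz)
    have s1 := (hS.of_le hSY le_top).inf_normal_of_le (nrm_le_nrm_cen Y) (cen_le_nrm Y)
    have s2 := s1.ne_bot (by rw [← hu, ← ord_conj g u]; exact orderOf_dvd_natCard _ gu)
    obtain ⟨⟨s, s3, s4⟩, s5⟩ := ne_bot_iff_exists_ne_one.1 (inf_centralizer_ne_bot hS.pgroup s1.pgroup
      (le_normalizer_inf le_normalizer (hSY.trans (nrm_le_nrm_cen Y))) s2)
    obtain ⟨n, hs'⟩ := exists_inv_pow hS.pgroup s3.1 fun e => s5 (Subtype.ext e)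
    exact hall _ (pow_mem s3.1 n) hs' (fun a ha => mem_centralizer_singleton_iff.2
      (pow_mem s4 n a ha)) (pow_mem s3.2 n)
  · have pE : ∀ b ∈ c.Rp uR, b ∈ normalizer (Y₁ ∩ Y₂) → b ∈ EE Y := fun b hb hb' =>
      by_contra fun e => hP (JP b hb e hb')
    obtain ⟨w, hw, hw'⟩ := SetLike.not_le_iff_exists.1 hP
    have w1 : w * x * w⁻¹ ∈ Fx D u :=
      mem_Fx.2 ⟨F.conj x xD w, (comm_iff F h.na sY xY uR (xc u huS) hw.1).2 hw⟩
    have w2 : w * x * w⁻¹ ∉ Y₁ ∩ Y₂ := fun e => hw' ((iff w hw.1).1 e)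
    have w3 : w * x * w⁻¹ ∈ Y := conj_mem_of_nrm (sY.RR_le_nrm F hw.1) xY
    have tN := uq _ w3 w1 (fun e => w2 (sI.mem_of_zp hx w1.1 e)) t ut.symm
    have only : ∀ z ∈ Y'', z * t = t * z → z ∈ zpowers x := fun z hz e => by_contra fun zx =>
      w2 (jl z (htI (mem_Fx.2 ⟨hY''.sub hz, e⟩)) hz zx ⟨w3, hs w1⟩)
    have := h.cen_of_inverts hr sY'' tt tN (hs xu) (xc t htS) only
    obtain ⟨e, he, hz⟩ := SetLike.not_le_iff_exists.1 (h.EE_not_le hr hY'')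
    exact yx (only y (h.typeG hr hY'' ht tN he hz (this e he) hyt) (mem_Fx.1 hyt).2)

omit hr in
theorem om_cj (g t : G) : cjs g (Om D t) = Om D (g * t * g⁻¹) := by
  ext y
  rw [mem_cjs]
  refine ⟨fun hy Y hY hs => ?_, fun hy Y hY hs => ?_⟩
  · have := hy _ (h.blk_cj hY g⁻¹) (by
      rw [← cjs_inv_cjs g (Fx D t), cjs_Fx h.toIsN]; exact cjs_mono _ hs)
    simpa [mem_cjs, mul_assoc] using this
  · exact mem_cjs.1 (hy _ (h.blk_cj hY g) (by rw [← cjs_Fx h.toIsN]; exact cjs_mono _ hs))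

omit hr in
theorem om_nrm {g t : G} (e : g * t = t * g) : g ∈ normalizer (Om D t) := by
  rw [mem_nrm_iff, h.om_cj, e, mul_inv_cancel_right]

theorem om_eq {t : G} (ht : orderOf t = 2) {Y₁ Y₂ : Set G} (h₁ : Blk D Y₁) (h₂ : Blk D Y₂) (ne : Y₁ ≠ Y₂)
    (s₁ : Fx D t ⊆ Y₁) (s₂ : Fx D t ⊆ Y₂) : Om D t = Y₁ ∩ Y₂ := by
  obtain ⟨x, hx, y, hy, xy⟩ := h.Fx_nt hr ht
  exact Set.Subset.antisymm (fun z hz => ⟨hz _ h₁ s₁, hz _ h₂ s₂⟩) fun z hz Y hY hs =>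
    h.jl_sub hr h₁ h₂ ne xy ⟨s₁ hx, s₂ hx⟩ ⟨s₁ hy, s₂ hy⟩ hY (hs hx) (hs hy) hz

theorem ob_pair {t : G} (ht : IsTwoCentralInvolution t) : ∃ (g : G) (S A : Subgroup G),
    cjs g (Om D t) ≠ Om D t ∧ SylIn 2 S ⊤ ∧ t ∈ S ∧ S ≤ centralizer {t} ∧ A ≤ S ∧
      A ≤ centralizer {g * t * g⁻¹} ∧ (∀ a ∈ A, a * a = 1) ∧ 4 < Nat.card A := by
  have : Fact (Nat.Prime 2) := ⟨Nat.prime_two⟩
  have nr := h.not_rec hr
  simp only [Rec, not_or] at nr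
  obtain ⟨n1, n2, -⟩ := nr
  obtain ⟨Y, hY, hs⟩ := h.ob_blk (h.inv_not_center hr ht.1)
  obtain ⟨x, hx⟩ := (h.Fx_nt hr ht.1).nonempty
  have o1 : Om D t ⊆ Y := fun z hz => hz Y hY hs
  have cM : centralizer {t} ≤ normalizer (Om D t) :=
    fun g hg => h.om_nrm (mem_centralizer_singleton_iff.1 hg)
  have : ∃ g, g * t * g⁻¹ ∈ normalizer (Om D t) ∧ g ∉ normalizer (Om D t) := by
    by_contra! hc
    exact n2 ⟨_, t, h.ob_le (h.nrm_ne (o1.trans hY.sub) ⟨x, fun _ _ hs => hs hx⟩ fun e => hY.ne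
      (top_le_iff.1 (e.ge.trans (closure_mono o1)))), center_le_nrm _, ht, cM, hc⟩
  obtain ⟨g, g1, g2⟩ := this
  obtain ⟨t2, P, tP, hP⟩ := ht
  have Pc : (P : Subgroup G) ≤ centralizer {t} := fun a ha => mem_centralizer_singleton_iff.2 (hP a ha)
  have pz : ∀ s : G, orderOf s = 2 → IsPGroup 2 (zpowers s) := fun s hs =>
    MSS.isPGroup_zpowers (k := 1) (by rw [pow_one, ← hs, pow_orderOf_eq_one])
  obtain ⟨m, hm, e⟩ := (sylIn_sylow P (Pc.trans cM)).exists_conj_le (pz _ ((ord_conj g t).trans t2))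
    (zpowers_le.2 g1)
  have e1 : m * g * t * (m * g)⁻¹ ∈ (P : Subgroup G) := by
    have := e (conj_mem_cj (mem_zpowers _))
    rwa [show m * (g * t * g⁻¹) * m⁻¹ = m * g * t * (m * g)⁻¹ by group] at this
  have g3 : m * g ∉ normalizer (Om D t) := fun e => g2 ((mul_mem_cancel_left hm).1 e)
  generalize m * g = k at e1 g3
  have t2' : orderOf (k * t * k⁻¹) = 2 := (ord_conj k t).trans t2
  have tt' : k * t * k⁻¹ ∈ centralizer {t} := Pc e1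
  have t't : t ∈ centralizer {k * t * k⁻¹} :=
    mem_centralizer_singleton_iff.2 (mem_centralizer_singleton_iff.1 tt').symm
  have self : ∀ s : G, s ∈ centralizer {s} := fun s => mem_centralizer_singleton_iff.2 rfl
  obtain ⟨T, hT⟩ := exists_sylIn 2 (centralizer {t} ⊓ centralizer {k * t * k⁻¹} : Subgroup G)
  have mT : ∀ s, orderOf s = 2 → s ∈ centralizer {t} → s ∈ centralizer {k * t * k⁻¹} →
      T ≤ centralizer {s} → s ∈ T := fun s h1 h2 h3 h4 =>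
    hT.le_of_normalized (pz s h1) (zpowers_le.2 ⟨h2, h3⟩) (fun a ha => centralizer_le_normalizer _ (by
      rintro _ ⟨n, rfl⟩
      exact ((show Commute a s from mem_centralizer_singleton_iff.1 (h4 ha)).zpow_right n).symm.eq))
      (mem_zpowers s)
  have tT := mT t t2 (self t) t't (hT.le.trans inf_le_left)
  have tT' := mT _ t2' tt' (self _) (hT.le.trans inf_le_right)
  obtain ⟨S, hS, TS⟩ := exists_sylIn_ge hT.pgroup (hT.le.trans inf_le_left)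
  obtain ⟨S', hS', TS'⟩ := exists_sylIn_ge hT.pgroup (hT.le.trans inf_le_right)
  have c1 := hS.card_eq (sylIn_sylow P Pc)
  have c2 : Nat.card S' = Nat.card (P : Subgroup G) := by
    have := (sylIn_sylow P Pc).cj k
    rw [cj_centralizer_singleton] at this
    rw [hS'.card_eq this, card_cj]
  have hSt : SylIn 2 S ⊤ := (sylIn_top P).of_card_le hS.pgroup le_top c1.ge
  have e2 : S ⊓ centralizer {k * t * k⁻¹} = T := hT.max _ (hS.pgroup.to_le inf_le_left)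
    (le_inf TS (hT.le.trans inf_le_right)) (inf_le_inf_right _ hS.le)
  have e3 : S' ⊓ centralizer {t} = T := hT.max _ (hS'.pgroup.to_le inf_le_left)
    (le_inf TS' (hT.le.trans inf_le_left)) (le_inf inf_le_right (inf_le_left.trans hS'.le))
  have ne : t ≠ k * t * k⁻¹ := fun e => g3 (h.om_nrm (mul_inv_eq_iff_eq_mul.1 e.symm))
  have rk : ¬ PRankLE 2 2 S := by
    obtain ⟨A, -, a1, a2⟩ := exists_elem (k := 2) (T := (⊤ : Subgroup G)) fun e => n1 fun A h1 h2 => by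
      have := e (A.subgroupOf ⊤) (ab_sq fun a ha => Subtype.ext (by simpa [pow_two] using h2 a ha))
        fun a ha => Subtype.ext (h2 a ha)
      rwa [Nat.card_congr (subgroupOfEquivOfLe le_top).toEquiv] at this
    obtain ⟨j, -, hj⟩ := hSt.exists_conj_le (pg_sq a1) le_top
    refine not_rank_of hj ?_ (by rwa [card_cj])
    rintro _ ⟨a, ha, rfl⟩
    rw [← map_mul, a1 a ha, map_one]
  obtain ⟨A, a0, a1, a2⟩ := exists_elem fun e => rk (rank_le hS.pgroup hS'.pgroup (c1.trans c2.symm) t2 t2' ne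
    (TS tT) (TS tT') (TS' tT) (TS' tT') hS.le hS'.le (e2.trans e3.symm) e)
  exact ⟨k, S, A, fun e => g3 (mem_nrm_iff.2 e), hSt, TS tT, hS.le, a0.trans inf_le_left,
    a0.trans inf_le_right, a1, a2⟩

theorem ob_two {t : G} (ht : IsTwoCentralInvolution t) :
    ∃ Y₁ Y₂, Blk D Y₁ ∧ Blk D Y₂ ∧ Y₁ ≠ Y₂ ∧ Fx D t ⊆ Y₁ ∧ Fx D t ⊆ Y₂ := by
  by_contra! hc
  obtain ⟨Y, hY, hs⟩ := h.ob_blk (h.inv_not_center hr ht.1)
  have e : Om D t = Y := Set.Subset.antisymm (fun z hz => hz Y hY hs) fun z hz Y' hY' hs' => by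
    by_contra hn
    exact hc Y' Y hY' hY (fun e => hn (e ▸ hz)) hs' hs
  obtain ⟨g, S, A, h1, -, -, h2, h3, h4, h5, h6⟩ := h.ob_pair hr ht
  refine h1 ?_
  have n1 : A ≤ normalizer (Om D t) := fun a ha => h.om_nrm (mem_centralizer_singleton_iff.1 (h2 (h3 ha)))
  have n2 : A ≤ normalizer (cjs g (Om D t)) := fun a ha => by
    rw [h.om_cj]; exact h.om_nrm (mem_centralizer_singleton_iff.1 (h4 ha))
  rw [e] at n1 n2 ⊢
  exact h.u8 hr (h.blk_cj hY g) hY h5 h6 n2 n1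

theorem false_of_odd : False := by
  have : Fact (Nat.Prime 2) := ⟨Nat.prime_two⟩
  have F := h.toIsN
  have nr := h.not_rec hr
  simp only [Rec, not_or] at nr
  obtain ⟨n1, -, n3⟩ := nr
  obtain ⟨t, ht⟩ : ∃ t : G, IsTwoCentralInvolution t := by
    obtain ⟨P⟩ : Nonempty (Sylow 2 G) := inferInstance
    have P1 : (P : Subgroup G) ≠ ⊥ := fun e => n1 fun A _ h2 => by
      obtain ⟨j, -, hj⟩ := (sylIn_top P).exists_conj_le
        (pg_sq fun a ha => by simpa [pow_two] using h2 a ha) le_top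
      rw [e, le_bot_iff, cj_eq_bot_iff] at hj
      simp [hj]
    obtain ⟨⟨s, s3, s4⟩, s5⟩ := ne_bot_iff_exists_ne_one.1
      (inf_centralizer_ne_bot P.isPGroup' P.isPGroup' le_normalizer P1)
    obtain ⟨n, hs'⟩ := exists_inv_pow P.isPGroup' s3 fun e => s5 (Subtype.ext e)
    exact ⟨_, hs', P, pow_mem s3 n, pow_mem s4 n⟩
  obtain ⟨g, S, A, h1, hS, tS, h2, h3, h4, h5, h6⟩ := h.ob_pair hr ht
  obtain ⟨Y₁, Y₂, b1, b2, ne, s1, s2⟩ := h.ob_two hr ht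
  have eI := h.om_eq hr ht.1 b1 b2 ne s1 s2
  have nI : S ≤ normalizer (Y₁ ∩ Y₂) := fun a ha =>
    eI ▸ h.om_nrm (mem_centralizer_singleton_iff.1 (h2 ha))
  have nI' : A ≤ normalizer (cjs g Y₁ ∩ cjs g Y₂) := fun a ha => by
    rw [← cjs_inter, ← eI, h.om_cj]; exact h.om_nrm (mem_centralizer_singleton_iff.1 (h4 ha))
  rw [eI, cjs_inter] at h1
  have b1' := h.blk_cj b1 g
  have b2' := h.blk_cj b2 g
  have ne' : cjs g Y₁ ≠ cjs g Y₂ := fun e => ne (cjs_inj g e)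
  have nt : NT (Y₁ ∩ Y₂) := (h.Fx_nt hr ht.1).mono (Set.subset_inter s1 s2)
  have nt' : NT (cjs g Y₁ ∩ cjs g Y₂) := by
    rw [← cjs_inter]; exact nt.cj g
  generalize cjs g Y₁ = Y₃ at *
  generalize cjs g Y₂ = Y₄ at *
  have sI := (h.sub_of_blk b1).inter (h.sub_of_blk b2)
  have sI' := (h.sub_of_blk b1').inter (h.sub_of_blk b2')
  have nle : ∀ I, Sub r D I → NT I → ¬ RR I ≤ EE I := fun I hI hn => hI.RR_not_le F hn
  obtain ⟨B, B', hB, hB', -, i1, i2, i3⟩ := hyp h5 h6 ((h3.trans nI).trans (nrm_le_nrm_RR _))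
    (odd_of_pg h.rp hr sI.pg) (nle _ sI nt) (nI'.trans (nrm_le_nrm_RR _)) (odd_of_pg h.rp hr sI'.pg)
    (nle _ sI' nt')
  obtain ⟨⟨s, hs⟩, s1'⟩ := ne_bot_iff_exists_ne_one.1 i1
  have s2' : orderOf s = 2 := ord_of_sq (h5 s (hB hs.1)) fun e => s1' (Subtype.ext e)
  have two : ∀ I (C : Subgroup G), Sub r D I → NT I → A ≤ normalizer I → s ∈ C →
      ¬ RR I ⊓ centralizer (C : Set G) ≤ EE I → ∃ x ∈ I, ∃ y ∈ I, y ∉ zpowers x ∧ x ∈ Fx D s ∧ y ∈ Fx D s :=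
    fun I C hI nt hn hC e => by
      obtain ⟨x, hx, hc⟩ := h.fix1 hr hI nt.nonempty (pg_sq h5) hn
      obtain ⟨ρ, hρ, hρ'⟩ := SetLike.not_le_iff_exists.1 e
      have e1 : x * s = s * x := (mem_centralizer_singleton_iff.1 (hc (hB hs.1))).symm
      refine ⟨x, hx, _, conj_mem_of_nrm (hI.RR_le_nrm F hρ.1) hx, h.ob_move hI hx hρ.1 hρ',
        mem_Fx.2 ⟨hI.sub hx, e1⟩, mem_Fx.2 ⟨F.conj x (hI.sub hx) ρ, ?_⟩⟩
      exact (((show Commute ρ s from (hρ.2 s hC).symm).mul_left e1).mul_left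
        (show Commute ρ s from (hρ.2 s hC).symm).inv_left).eq
  obtain ⟨x, hx, y, hy, xy, xs, ys⟩ := two _ B sI nt (h3.trans nI) hs.1 i2
  obtain ⟨x', hx', y', hy', xy', xs', ys'⟩ := two _ B' sI' nt' nI' hs.2 i3
  obtain ⟨Y, hY, sY⟩ := h.ob_blk (h.inv_not_center hr s2')
  have j1 : ∀ Y', Blk D Y' → Fx D s ⊆ Y' → Y₁ ∩ Y₂ ⊆ Y' := fun Y' hY' e =>
    h.jl_sub hr b1 b2 ne xy hx hy hY' (e xs) (e ys)
  have j2 : ∀ Y', Blk D Y' → Fx D s ⊆ Y' → Y₃ ∩ Y₄ ⊆ Y' := fun Y' hY' e =>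
    h.jl_sub hr b1' b2' ne' xy' hx' hy' hY' (e xs') (e ys')
  have uq : ∀ Y', Blk D Y' → Fx D s ⊆ Y' → Y' = Y := fun Y' hY' e => by_contra fun n => h1
    (Set.Subset.antisymm
      ((Set.subset_inter (j2 _ hY' e) (j2 _ hY sY)).trans (Set.subset_inter
        (h.jl_sub hr hY' hY n xy ⟨e xs, sY xs⟩ ⟨e ys, sY ys⟩ b1 hx.1 hy.1)
        (h.jl_sub hr hY' hY n xy ⟨e xs, sY xs⟩ ⟨e ys, sY ys⟩ b2 hx.2 hy.2)))
      ((Set.subset_inter (j1 _ hY' e) (j1 _ hY sY)).trans (Set.subset_inter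
        (h.jl_sub hr hY' hY n xy' ⟨e xs', sY xs'⟩ ⟨e ys', sY ys'⟩ b1' hx'.1 hy'.1)
        (h.jl_sub hr hY' hY n xy' ⟨e xs', sY xs'⟩ ⟨e ys', sY ys'⟩ b2' hx'.2 hy'.2))))
  have AY : A ≤ normalizer Y := fun a ha => h.ob_nrm hY sY uq (comm_sq h5 ha (hB hs.1))
  have SY : S ≤ normalizer Y := by
    by_contra hn
    obtain ⟨k, ⟨k1, k2⟩, k3⟩ := SetLike.exists_of_lt (lt_inf_normalizer_of_lt hS.pgroup
      (inf_lt_left.2 hn))
    refine k3 ⟨k1, mem_nrm_iff.2 (h.u8 hr (h.blk_cj hY k) hY h5 h6 (fun a ha => mem_nrm_cjs.2 ?_) AY)⟩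
    simpa using (nm (inv_mem k2) (show a ∈ S ⊓ normalizer Y from ⟨h3 ha, AY ha⟩)).2
  have all := fun u => h.sig hr hY b1 b2 ne (j1 Y hY sY) hS SY nI ht.1 tS h2 (Set.subset_inter s1 s2)
    (u := u) fun v hv v2 hc hvY => by
      obtain ⟨Z₁, Z₂, z1, z2, zn, z3, z4⟩ := h.ob_two hr ⟨v2, hS.toSylowTop, hv,
        fun a ha => mem_centralizer_singleton_iff.1 (hc ha)⟩
      rw [h.Fx_eq hY hvY (h.inv_not_center hr v2)] at z3 z4
      exact zn ((h.eq_of_subset hY z1 z3).symm.trans (h.eq_of_subset hY z2 z4))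
  have sb := h.sub_of_blk hY
  refine n3 ⟨normalizer Y, hS.toSylowTop, h.ob_le (h.nrm_ne hY.sub ⟨x, sY xs⟩ hY.ne), center_le_nrm Y, fun C hC hk k kC => ?_⟩
  obtain ⟨C0, c0, c1, c2⟩ := exists_elem hk
  have bk := h.blk_cj hY k
  have nC : C0 ≤ normalizer (cjs k Y) := fun a ha => mem_nrm_cjs.2 (by
    simpa using SY (hC (nm (inv_mem kC) (c0 ha))))
  obtain ⟨z, hz, hc⟩ := h.fix1 hr (h.sub_of_blk bk) (h.blk_nt bk).nonempty
    (pg_sq c1) nC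
  have := (h.sub_of_blk bk).gen F h.na hz (K := closure Y) (ab_sq c1) (not_cyclic_of_card c1 c2)
    (cop_two h.rp hr (pg_sq c1)) nC hc fun b hb b1 v hv e =>
      subset_closure (all b (ord_of_sq (c1 b hb) b1) (hC (c0 hb)) (mem_Fx.2 ⟨bk.sub hv, e⟩))
  exact mem_nrm_iff.2 (h.eq_of_subset bk hY fun v hv => sb.cl v (bk.sub hv) (this hv))

end St

end CL.NF
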